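import Groth.Agent.H25FM.Calc
import Groth.Agent.H16Derived.TorTest.RpushAmp

/-!
# `Lf^*` and twists of a flat module placed in degree zero
-/

set_option autoImplicit false
set_option linter.style.haveILetI false
set_option linter.unusedSectionVars false
set_option backward.isDefEq.respectTransparency false

universe u

open CategoryTheory CategoryTheory.Limits AlgebraicGeometry

attribute [local instance] HasDerivedCategory.standard

noncomputable section

namespace Groth.Agent.H25FM

open Groth.Agent.H16Derived Groth.Agent.H16Derived.KFlat Groth.Agent.H16Derived.KFlat.Stalk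

variable {X Y : Scheme.{u}}

/-- A module in degree zero, in the derived category. -/
def inDIso (M : X.Modules) : DCoh.inD X M ≅ DCoh.toD X (one M) :=
  (DerivedCategory.singleFunctorIsoCompQ X.Modules 0).app M

/-- `Lf^*` of a flat module. -/
theorem nonempty_lpull_inD (f : X ⟶ Y) [DCoh.HasLpull f] {M : Y.Modules} (hM : FlatMod.IsFlat M) :
    Nonempty ((DCoh.Lpull f).obj (DCoh.inD Y M) ≅ DCoh.inD X ((Scheme.Modules.pullback f).obj M)) :=
  ⟨(DCoh.Lpull f).mapIso (inDIso M) ≪≫ lpullObjIso f (one M) (kflat_one hM) ≪≫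
    DerivedCategory.Q.mapIso ((HomologicalComplex.singleMapHomologicalComplex (Scheme.Modules.pullback f)
      (ComplexShape.up ℤ) 0).app M) ≪≫ (inDIso _).symm⟩

/-- Twist of a module. -/
theorem nonempty_ltensorMod_inD (M N : X.Modules) (hN : FlatMod.IsFlat N) [DCoh.HasLTensorMod N] :
    Nonempty ((DCoh.LTensorMod N).obj (DCoh.inD X M) ≅ DCoh.inD X (CohB1.tensorMod M N)) :=
  ⟨(DCoh.LTensorMod N).mapIso (inDIso M) ≪≫ (ltFlatIso hN).app (one M) ≪≫
    DerivedCategory.Q.mapIso ((HomologicalComplex.singleMapHomologicalComplex (DCoh.tensorRightMod N)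
      (ComplexShape.up ℤ) 0).app M) ≪≫ (inDIso _).symm⟩

theorem isQCohD_inD {M : X.Modules} (hM : Coh.IsQCoh M) : DCoh.IsQCohD (DCoh.inD X M) :=
  TorTest.isQCohD_inD hM

end Groth.Agent.H25FM
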