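import Groth.Agent.H16Derived.QCohD.Rpush
import Groth.Agent.H16Derived.KFlat.RestrictD
import Groth.Agent.H10Coh.AffineLeray
import Groth.Agent.H10Coh.HigherDirect2
import Groth.Agent.H25FM.Single

/-!
# Direct images concentrated in one degree
-/

set_option autoImplicit false
set_option linter.style.haveILetI false
set_option linter.unusedSectionVars false
set_option backward.isDefEq.respectTransparency false

universe u

open CategoryTheory CategoryTheory.Limits AlgebraicGeometry

attribute [local instance] HasDerivedCategory.standard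

noncomputable section

namespace Groth.Agent.H25FM

open Groth.Agent.H16Derived Groth.Agent.H16Derived.KFlat Groth.Agent.H16Derived.KFlat.Stalk

variable {X Y : Scheme.{u}}

/-- An object with one cohomology sheaf is that sheaf, shifted. -/
theorem nonempty_iso_shift_of_concentrated (K : DCoh.D X) (g : ℕ) {M : X.Modules}
    (hz : ∀ i : ℤ, i ≠ g → IsZero (DCoh.HD K i)) (e : DCoh.HD K (g : ℤ) ≅ M) :
    Nonempty (K ≅ (shiftFunctor (DCoh.D X) (-(g : ℤ))).obj (DCoh.inD X M)) := by
  haveI : K.IsGE (g : ℤ) := (DerivedCategory.isGE_iff _ _).2 fun i hi => hz i (by omega)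
  haveI : K.IsLE (g : ℤ) := (DerivedCategory.isLE_iff _ _).2 fun i hi => hz i (by omega)
  obtain ⟨N, ⟨eN⟩⟩ := DerivedCategory.exists_iso_singleFunctor_obj_of_isGE_of_isLE K (g : ℤ)
  let eNM : N ≅ M := ((DerivedCategory.singleFunctorCompHomologyFunctorIso X.Modules (g : ℤ)).app N).symm ≪≫
    (DerivedCategory.homologyFunctor X.Modules (g : ℤ)).mapIso eN.symm ≪≫ e
  exact ⟨eN ≪≫ (DerivedCategory.singleFunctor X.Modules (g : ℤ)).mapIso eNM ≪≫
    (((DerivedCategory.singleFunctors X.Modules).shiftIso (-(g : ℤ)) (g : ℤ) 0 (by omega)).app M).symm⟩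

/-- Derived direct image of a module with one higher direct image. -/
theorem nonempty_rpush_shift (f : X ⟶ Y) [DCoh.HasRpush f] [HasInjectiveResolutions X.Modules] (F : X.Modules)
    (g : ℕ) {M : Y.Modules} (hz : ∀ n : ℕ, n ≠ g → IsZero ((Coh.Rpush f n).obj F))
    (e : (Coh.Rpush f g).obj F ≅ M) :
    Nonempty ((DCoh.Rpush f).obj (DCoh.inD X F) ≅ (shiftFunctor (DCoh.D Y) (-(g : ℤ))).obj (DCoh.inD Y M)) := by
  obtain ⟨eg⟩ := QCohD.nonempty_hd_rpush_single f F g
  refine nonempty_iso_shift_of_concentrated _ g (fun i hi => ?_) (eg ≪≫ e)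
  rcases lt_or_ge i 0 with h | h
  · haveI : DerivedCategory.IsGE ((DCoh.Rpush f).obj (DCoh.inD X F)) 0 := isGE_rpush f _ 0
    exact DerivedCategory.isZero_of_isGE _ 0 i h
  · obtain ⟨p, rfl⟩ := Int.eq_ofNat_of_zero_le h
    obtain ⟨ep⟩ := QCohD.nonempty_hd_rpush_single f F p
    exact (hz p (by omega)).of_iso ep

/-- Derived direct image of a quasi-coherent module along an affine morphism. -/
theorem nonempty_rpush_affine (f : X ⟶ Y) [IsAffineHom f] [DCoh.HasRpush f] [HasInjectiveResolutions X.Modules]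
    (F : X.Modules) [F.IsQuasicoherent] :
    Nonempty ((DCoh.Rpush f).obj (DCoh.inD X F) ≅ DCoh.inD Y ((Coh.push f).obj F)) := by
  have hz : ∀ n : ℕ, n ≠ 0 → IsZero ((Coh.Rpush f n).obj F) := fun n hn => by
    obtain ⟨m, rfl⟩ := Nat.exists_eq_succ_of_ne_zero hn
    rw [IsZero.iff_id_eq_zero]
    exact (H10Coh.shF Y).map_injective
      (((H10Coh.isZero_rpushAb_of_isAffineHom f F m).of_iso
        (H10Coh.nonempty_toAb_rpush f F (m + 1)).some).eq_of_src _ _)
  obtain ⟨e⟩ := nonempty_rpush_shift f F 0 hz ((Scheme.Modules.pushforward f).rightDerivedZeroIsoSelf.app F)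
  exact ⟨e ≪≫ (shiftFunctorZero' (DCoh.D Y) (-((0 : ℕ) : ℤ)) (by simp)).app _⟩

end Groth.Agent.H25FM
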