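import Groth.Agent.H25FM.Single
import Groth.Agent.H25FM.Kernel
import Groth.Agent.H16Derived.ProjFormula.DQc
import Groth.Agent.H16Derived.Dual.Symm
import Groth.Agent.H16Derived.KFlat.Single
import Groth.Agent.H16Derived.KInjRes.Main

/-!
# `- ⊗^L M` through the derived tensor bifunctor, and the projection formula as functors
-/

set_option autoImplicit false
set_option linter.style.haveILetI false
set_option linter.unusedSectionVars false
set_option backward.isDefEq.respectTransparency false
set_option maxHeartbeats 1000000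

universe u

open CategoryTheory CategoryTheory.Limits AlgebraicGeometry

attribute [local instance] HasDerivedCategory.standard

noncomputable section

namespace Groth.Agent.H25FM

open Groth.Agent.H16Derived Groth.Agent.H16Derived.KFlat Groth.Agent.H16Derived.KFlat.Stalk

variable {X Y : Scheme.{u}}

/-- `- ⊗ M` is `Tot (M[0] ⊗ -)`, naturally. -/
def totOneIso (M : X.Modules) :
    (DCoh.tensorRightMod M).mapHomologicalComplex (ComplexShape.up ℤ) ≅
      tot (DCoh.tensorBi (X := X)) (one M) :=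
  NatIso.mapHomologicalComplex (tensorRightModIso M ≪≫
      ((Dual.braidM (X := X)).app M).symm ≪≫
      (DCoh.tensorBi (X := X)).mapIso
        (HomologicalComplex.singleObjXSelf (ComplexShape.up ℤ) 0 M).symm) (ComplexShape.up ℤ) ≪≫
    NatIso.ofComponents (fun K => singleLeftIso (DCoh.tensorBi (X := X)) (one M) K (one_isZero M))
      (fun {K L} g => by
        refine HomologicalComplex.hom_ext _ _ fun q => ?_
        show ((DCoh.tensorBi (X := X)).obj ((one M).X 0)).map (g.f q) ≫
            HomologicalComplex.ιMapBifunctor (one M) L (DCoh.tensorBi (X := X)) (ComplexShape.up ℤ) 0 q q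
              (zero_add q) =
          HomologicalComplex.ιMapBifunctor (one M) K (DCoh.tensorBi (X := X)) (ComplexShape.up ℤ) 0 q q
              (zero_add q) ≫ ((tot (DCoh.tensorBi (X := X)) (one M)).map g).f q
        simp)

/-- `- ⊗^L M` is `M[0] ⊗^L -`, for flat `M`. -/
theorem nonempty_T_inD {M : X.Modules} (hM : FlatMod.IsFlat M) [DCoh.HasLTensorMod M] :
    Nonempty ((Dual.T X).obj (DCoh.inD X M) ≅ DCoh.LTensorMod M) := by
  refine ⟨(Dual.T X).mapIso (inDIso M) ≪≫ (nonempty_of_Q _ _ ?_).some⟩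
  exact Dual.TObjIso (one M) (lkflat_one hM) ≪≫
    Functor.isoWhiskerRight (totOneIso M).symm DerivedCategory.Q ≪≫ (ltFlatIso hM).symm

/-- Shift of the first factor, naturally in the second. -/
def totShiftIso (L : CochainComplex X.Modules ℤ) (n : ℤ) :
    tot (DCoh.tensorBi (X := X)) (L⟦n⟧) ≅ tot (DCoh.tensorBi (X := X)) L ⋙ shiftFunctor _ n :=
  NatIso.ofComponents (fun K => CochainComplex.mapBifunctorShift₁Iso L K (DCoh.tensorBi (X := X)) n)
    (fun {K K'} g => by
      refine HomologicalComplex.hom_ext _ _ fun m => HomologicalComplex.mapBifunctor.hom_ext fun p q h => ?_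
      simp [CochainComplex.ι_mapBifunctorShift₁Iso_hom_f _ _ _ _ _ _ _ _ (p + n) (m + n) rfl rfl,
        CochainComplex.ι_mapBifunctorShift₁Iso_hom_f_assoc _ _ _ _ _ _ _ _ (p + n) (m + n) rfl rfl])

/-- `O[n] ⊗^L -` is the shift. -/
theorem nonempty_T_shift_structure (X : Scheme.{u}) (n : ℤ) :
    Nonempty ((Dual.T X).obj ((shiftFunctor (DCoh.D X) n).obj (DCoh.inD X (Coh.structureModule X))) ≅
      shiftFunctor (DCoh.D X) n) := by
  let O := Coh.structureModule X
  have hk : lkflat X ((one O)⟦n⟧) := (lkflat_one (isFlat_structure X)).shift n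
  refine ⟨(Dual.T X).mapIso ((shiftFunctor (DCoh.D X) n).mapIso (inDIso O) ≪≫
    ((DerivedCategory.Q.commShiftIso n).app (one O)).symm) ≪≫ (nonempty_of_Q _ _ ?_).some⟩
  exact Dual.TObjIso ((one O)⟦n⟧) hk ≪≫
    Functor.isoWhiskerRight (totShiftIso (one O) n ≪≫
      Functor.isoWhiskerRight ((totOneIso O).symm ≪≫
        NatIso.mapHomologicalComplex (tensorRightUnit X) (ComplexShape.up ℤ) ≪≫
        Functor.mapHomologicalComplexIdIso _ _) _ ≪≫ Functor.leftUnitor _) DerivedCategory.Q ≪≫
    DerivedCategory.Q.commShiftIso n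

/-- The projection formula, as functors on objects with quasi-coherent cohomology. -/
theorem nonempty_projection_T {C : Type*} [Category C] (W : C ⥤ DCoh.D Y)
    (hW : ∀ c, DCoh.IsQCohD (W.obj c)) (f : X ⟶ Y) [QuasiCompact f] [QuasiSeparated f]
    [DCoh.HasLpull f] [DCoh.HasRpush f] (E : DCoh.D X) (hE : DCoh.IsQCohD E) :
    Nonempty (W ⋙ (Dual.T Y).obj ((DCoh.Rpush f).obj E) ≅
      W ⋙ DCoh.Lpull f ⋙ (Dual.T X).obj E ⋙ DCoh.Rpush f) := by
  haveI := isGrothendieckAbelian_modules (X := X)
  obtain ⟨N, j, hN⟩ := KInjRes.exists_resolution_functor (A := X.Modules)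
  let C₀ := DerivedCategory.Q.objPreimage E
  let I := N.obj C₀
  haveI : I.IsKInjective := (hN C₀).2.2.1
  haveI : IsIso (DerivedCategory.Q.map (j.app C₀)) :=
    (DerivedCategory.isIso_Q_map_iff_quasiIso X.Modules _).2 (hN C₀).2.1
  let eI : DerivedCategory.Q.obj I ≅ E :=
    (asIso (DerivedCategory.Q.map (j.app C₀))).symm ≪≫ DerivedCategory.Q.objObjPreimageIso E
  have hI : DCoh.IsQCohD (DerivedCategory.Q.obj I) := QCohD.isQCohD_iso eI.symm hE
  haveI := ProjFormula.isIso_η₀ f I
  haveI : ∀ c, IsIso ((Functor.whiskerLeft W (ProjFormula.θ f I)).app c) := fun c =>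
    ProjFormula.isIso_θ_of_isQCohD f I hI _ (hW c)
  haveI := NatIso.isIso_of_isIso_app (Functor.whiskerLeft W (ProjFormula.θ f I))
  exact ⟨Functor.isoWhiskerLeft W ((Dual.T Y).mapIso
      ((DCoh.Rpush f).mapIso eI.symm ≪≫ (asIso ((ProjFormula.η₀ f).app I)).symm)) ≪≫
    asIso (Functor.whiskerLeft W (ProjFormula.θ f I)) ≪≫
    Functor.isoWhiskerLeft W (Functor.isoWhiskerLeft (DCoh.Lpull f)
      (Functor.isoWhiskerRight ((Dual.T X).mapIso eI) (DCoh.Rpush f)))⟩

end Groth.Agent.H25FM
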