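import Groth.Agent.H25FM.Tensor
import Groth.Agent.H16Derived.KFlat.LTensorAssoc
import Groth.Agent.H16Derived.BaseChange.Main
import Groth.Agent.H16Derived.QCohD.Lpull
import Groth.Agent.H11Ample.Twist
import Groth.Agent.H10Coh.TensorBasics

/-!
# Calculus of `Lf^*`, `Rf_*` and twists by invertible modules, as isomorphisms of functors
-/

set_option autoImplicit false
set_option linter.style.haveILetI false
set_option linter.unusedSectionVars false
set_option backward.isDefEq.respectTransparency false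
set_option maxHeartbeats 1000000

universe u

open CategoryTheory CategoryTheory.Limits AlgebraicGeometry MonoidalCategory

attribute [local instance] HasDerivedCategory.standard

noncomputable section

namespace Groth.Agent.H25FM

open Groth.Agent.H16Derived Groth.Agent.H16Derived.KFlat Groth.Agent.H16Derived.KFlat.Stalk

variable {X Y Z : Scheme.{u}}

/-- Associativity on modules, naturally in the first variable. -/
def tensorRightAssoc (M N : X.Modules) :
    DCoh.tensorRightMod M ⋙ DCoh.tensorRightMod N ≅ DCoh.tensorRightMod (CohB1.tensorMod M N) :=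
  NatIso.ofComponents (fun A => ((sheafAssoc (X := X)).app A).app M |>.app N)
    (fun {A B} g => congrArg (fun t => NatTrans.app t N)
      (congrArg (fun t => NatTrans.app t M) ((sheafAssoc (X := X)).hom.naturality g)))

set_option synthInstance.maxHeartbeats 400000 in
def tensorRightUnit (X : Scheme.{u}) :
    DCoh.tensorRightMod (Coh.structureModule X) ≅ 𝟭 X.Modules :=
  Functor.isoWhiskerLeft _ (Functor.isoWhiskerRight (rightUnitorNatIso _) _) ≪≫
    (show DCoh.toP ⋙ 𝟭 (CohB1.PMod X) ⋙ DCoh.shP ≅ 𝟭 X.Modules from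
      (asIso (PresheafOfModules.sheafificationAdjunction (𝟙 X.ringCatSheaf.obj)).counit :))

/-- Associativity on complexes. -/
def assocCx (M N : X.Modules) :
    (DCoh.tensorRightMod M).mapHomologicalComplex (ComplexShape.up ℤ) ⋙
        (DCoh.tensorRightMod N).mapHomologicalComplex (ComplexShape.up ℤ) ≅
      (DCoh.tensorRightMod (CohB1.tensorMod M N)).mapHomologicalComplex (ComplexShape.up ℤ) :=
  NatIso.ofComponents
    (fun K => HomologicalComplex.Hom.isoOfComponents (fun i => (tensorRightAssoc M N).app (K.X i))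
      (fun i j _ => ((tensorRightAssoc M N).hom.naturality (K.d i j)).symm))
    (fun {K L} g => HomologicalComplex.hom_ext _ _ fun i => (tensorRightAssoc M N).hom.naturality (g.f i))

theorem isFlat_structure (X : Scheme.{u}) : FlatMod.IsFlat (Coh.structureModule X) :=
  isFlat_invertible H11Ample.isInvertible_structureModule

/-- `(- ⊗^L M) ⊗^L N ≅ - ⊗^L (M ⊗ N)`. -/
theorem nonempty_ltensorMod_comp {M N : X.Modules} (hM : PicF.IsInvertible M) (hN : PicF.IsInvertible N)
    [DCoh.HasLTensorMod M] [DCoh.HasLTensorMod N] [DCoh.HasLTensorMod (CohB1.tensorMod M N)] :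
    Nonempty (DCoh.LTensorMod M ⋙ DCoh.LTensorMod N ≅ DCoh.LTensorMod (CohB1.tensorMod M N)) :=
  nonempty_of_Q _ _ (Functor.isoWhiskerRight (ltFlatIso (isFlat_invertible hM)) _ ≪≫
    Functor.isoWhiskerLeft ((DCoh.tensorRightMod M).mapHomologicalComplex (ComplexShape.up ℤ))
      (ltFlatIso (isFlat_invertible hN)) ≪≫
    Functor.isoWhiskerRight (assocCx M N)
      DerivedCategory.Q ≪≫
    (ltFlatIso (isFlat_invertible (H11Ample.isInvertible_tensor hM hN))).symm)

/-- `- ⊗^L O ≅ 1`. -/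
theorem nonempty_ltensorMod_unit (X : Scheme.{u}) [DCoh.HasLTensorMod (Coh.structureModule X)] :
    Nonempty (DCoh.LTensorMod (Coh.structureModule X) ≅ 𝟭 _) :=
  nonempty_of_Q _ _ (ltFlatIso (isFlat_structure X) ≪≫
    Functor.isoWhiskerRight (NatIso.mapHomologicalComplex (tensorRightUnit X) (ComplexShape.up ℤ) ≪≫
      Functor.mapHomologicalComplexIdIso _ _) DerivedCategory.Q ≪≫
    Functor.leftUnitor _ ≪≫ (Functor.rightUnitor _).symm)

theorem nonempty_lpull_comp (f : X ⟶ Y) (g : Y ⟶ Z) (h : X ⟶ Z) (w : f ≫ g = h)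
    [DCoh.HasLpull f] [DCoh.HasLpull g] [DCoh.HasLpull h] :
    Nonempty (DCoh.Lpull g ⋙ DCoh.Lpull f ≅ DCoh.Lpull h) := by
  subst w
  exact nonempty_lpullCompIso f g

theorem nonempty_rpush_comp (f : X ⟶ Y) (g : Y ⟶ Z) (h : X ⟶ Z) (w : f ≫ g = h)
    [DCoh.HasRpush f] [DCoh.HasRpush g] [DCoh.HasRpush h] :
    Nonempty (DCoh.Rpush f ⋙ DCoh.Rpush g ≅ DCoh.Rpush h) := by
  subst w
  exact nonempty_rpushCompIso f g

theorem nonempty_lpull_congr {f g : X ⟶ Y} (w : f = g) [DCoh.HasLpull f] [DCoh.HasLpull g] :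
    Nonempty (DCoh.Lpull f ≅ DCoh.Lpull g) := by
  subst w
  exact ⟨Iso.refl _⟩

/-- `L(id)^* ≅ 1`. -/
theorem nonempty_lpull_id (X : Scheme.{u}) [DCoh.HasLpull (𝟙 X)] :
    Nonempty (DCoh.Lpull (𝟙 X) ≅ 𝟭 _) := by
  haveI := LeftDerTri.isLocalization (pullAdapted (𝟙 X))
  let e : ((kflat X).ι ⋙ DerivedCategory.Q) ⋙ DCoh.Lpull (𝟙 X) ≅
      ((kflat X).ι ⋙ DerivedCategory.Q) ⋙ 𝟭 _ :=
    lpullIso (𝟙 X) ≪≫ Functor.isoWhiskerLeft (kflat X).ι
      (Functor.isoWhiskerRight (NatIso.mapHomologicalComplex (Scheme.Modules.pullbackId X)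
        (ComplexShape.up ℤ) ≪≫ Functor.mapHomologicalComplexIdIso _ _) DerivedCategory.Q ≪≫
        Functor.leftUnitor _) ≪≫ (Functor.rightUnitor _).symm
  exact ⟨Localization.liftNatIso ((kflat X).ι ⋙ DerivedCategory.Q) (LeftDerTri.qis _) _ _ _ _ e⟩

/-- `- ⊗^L N` for invertible `N`, with inverse `N'`, is an equivalence. -/
theorem exists_twist_equiv {N N' : X.Modules} (hN : PicF.IsInvertible N) (hN' : PicF.IsInvertible N')
    (c : CohB1.tensorMod N' N ≅ Coh.structureModule X) [DCoh.HasLTensorMod N] [DCoh.HasLTensorMod N'] :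
    Nonempty (DCoh.LTensorMod N' ⊣ DCoh.LTensorMod N) := by
  haveI := hasLTensorMod (CohB1.tensorMod N' N)
  haveI := hasLTensorMod (CohB1.tensorMod N N')
  haveI := hasLTensorMod (Coh.structureModule X)
  obtain ⟨a⟩ := nonempty_ltensorMod_comp hN' hN
  obtain ⟨a'⟩ := nonempty_ltensorMod_comp hN hN'
  obtain ⟨b⟩ := nonempty_ltensorMod_congr c (isFlat_invertible (H11Ample.isInvertible_tensor hN' hN))
  obtain ⟨b'⟩ := nonempty_ltensorMod_congr (H10Coh.Tw.commIso _ _ ≪≫ c)
    (isFlat_invertible (H11Ample.isInvertible_tensor hN hN'))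
  obtain ⟨o⟩ := nonempty_ltensorMod_unit X
  exact ⟨(CategoryTheory.Equivalence.mk (DCoh.LTensorMod N') (DCoh.LTensorMod N)
    (a ≪≫ b ≪≫ o).symm (a' ≪≫ b' ≪≫ o)).toAdjunction⟩

/-- The projection formula for an invertible module, as an isomorphism of functors. -/
theorem nonempty_projection (f : X ⟶ Y) [DCoh.HasRpush f] {N : Y.Modules} (hN : PicF.IsInvertible N)
    [DCoh.HasLTensorMod N] [DCoh.HasLTensorMod ((Scheme.Modules.pullback f).obj N)] :
    Nonempty (DCoh.Rpush f ⋙ DCoh.LTensorMod N ≅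
      DCoh.LTensorMod ((Scheme.Modules.pullback f).obj N) ⋙ DCoh.Rpush f) := by
  obtain ⟨N', hN', ⟨c⟩⟩ := H11Sym.exists_inverse hN
  haveI := hasLpull f
  haveI := hasLTensorMod N'
  haveI := hasLTensorMod ((Scheme.Modules.pullback f).obj N')
  obtain ⟨a⟩ := exists_twist_equiv hN hN' c
  obtain ⟨a'⟩ := exists_twist_equiv (H11Ample.isInvertible_pullback f hN)
    (H11Ample.isInvertible_pullback f hN')
    ((H25Theta.pT f N' N).symm ≪≫ (Scheme.Modules.pullback f).mapIso c ≪≫ H25Theta.pO f)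
  obtain ⟨e⟩ := nonempty_lpull_ltensorMod f (isFlat_invertible hN')
  exact ⟨((a.comp (lpullRpushAdj f)).ofNatIsoLeft e).rightAdjointUniq ((lpullRpushAdj f).comp a')⟩

/-- Twisting by an invertible module preserves quasi-coherent cohomology. -/
theorem isQCohD_ltensorMod {M : X.Modules} (hM : PicF.IsInvertible M) [DCoh.HasLTensorMod M]
    {K : DCoh.D X} (hK : DCoh.IsQCohD K) : DCoh.IsQCohD ((DCoh.LTensorMod M).obj K) := fun i => by
  have hf := isFlat_invertible hM
  have hex : PreservesFiniteLimits (DCoh.tensorRightMod M) ∧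
      PreservesFiniteColimits (DCoh.tensorRightMod M) :=
    (Functor.exact_tfae (DCoh.tensorRightMod M)).out 0 3 |>.1 fun S hS =>
      ShortComplex.shortExact_of_iso (S.mapNatIso (tensorRightModIso M).symm) (isFlatObj_of_isFlat hf S hS)
  haveI := hex.1
  haveI := hex.2
  obtain ⟨G, ⟨e⟩⟩ : ∃ G, Nonempty (DerivedCategory.Q.obj G ≅ K) :=
    ⟨_, ⟨DerivedCategory.Q.objObjPreimageIso K⟩⟩
  refine QCohD.isQCoh_iso ((DerivedCategory.homologyFunctor X.Modules i).mapIso
    (((ltFlatIso hf).app G).symm ≪≫ (DCoh.LTensorMod M).mapIso e)) ?_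
  refine QCohD.isQCoh_iso ((DerivedCategory.homologyFunctorFactors X.Modules i).app _).symm ?_
  refine QCohD.isQCoh_iso ((G.sc i).mapHomologyIso (DCoh.tensorRightMod M)).symm ?_
  exact H11Ample.isQCoh_tensor (QCohD.isQCoh_iso ((DerivedCategory.homologyFunctor X.Modules i).mapIso e.symm ≪≫
    (DerivedCategory.homologyFunctorFactors X.Modules i).app G) (hK i)) hM

/-- Flat (or Tor independent) base change, as an isomorphism of functors on objects with
quasi-coherent cohomology. -/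
theorem nonempty_baseChange {C : Type*} [Category C] (T : C ⥤ DCoh.D X) (hT : ∀ c, DCoh.IsQCohD (T.obj c))
    {X' Y' : Scheme.{u}} {f : X ⟶ Y} [QuasiCompact f] [QuasiSeparated f] {g : Y' ⟶ Y} {f' : X' ⟶ Y'}
    {g' : X' ⟶ X} (h : IsPullback g' f' f g) (hti : BaseChange.TI f g)
    [DCoh.HasRpush f] [DCoh.HasLpull g] [DCoh.HasRpush f'] [DCoh.HasLpull g'] :
    Nonempty (T ⋙ DCoh.Rpush f ⋙ DCoh.Lpull g ≅ T ⋙ DCoh.Lpull g' ⋙ DCoh.Rpush f') := by
  haveI := GammaAcyclic.hasRpush g
  haveI := GammaAcyclic.hasRpush g'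
  obtain ⟨e, he⟩ := BaseChange.exists_baseChangeApp_iso h hti (lpullRpushAdj g) (lpullRpushAdj g')
  haveI : ∀ c, IsIso (DCoh.baseChangeApp (lpullRpushAdj g) (lpullRpushAdj g') e (T.obj c)) :=
    fun c => he _ (hT c)
  refine ⟨NatIso.ofComponents
    (fun c => asIso (DCoh.baseChangeApp (lpullRpushAdj g) (lpullRpushAdj g') e (T.obj c))) fun {c c'} s => ?_⟩
  show (DCoh.Lpull g).map ((DCoh.Rpush f).map (T.map s)) ≫ ((lpullRpushAdj g).homEquiv _ _).symm _ =
    ((lpullRpushAdj g).homEquiv _ _).symm _ ≫ (DCoh.Rpush f').map ((DCoh.Lpull g').map (T.map s))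
  rw [← Adjunction.homEquiv_naturality_left_symm, ← Adjunction.homEquiv_naturality_right_symm]
  congr 1
  have h1 := e.hom.naturality ((DCoh.Lpull g').map (T.map s))
  have h2 := (lpullRpushAdj g').unit.naturality (T.map s)
  dsimp at h1 h2
  rw [← Category.assoc, ← Functor.map_comp, h2, Functor.map_comp, Category.assoc, h1, Category.assoc]

end Groth.Agent.H25FM
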