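import Groth.Agent.S1684
import Groth.Agent.H29Ref.DivisorPart
import Groth.Agent.H11Div.DimDivisor
import Groth.Agent.H28Mero.ZeroScheme
import Groth.Agent.H12Pic.PicCurve.Section
import Groth.Agent.H28Vert.IdealProd
import Groth.Agent.H22Alg.RedIntegral
import Groth.Agent.H22Alg.DevLength
import Groth.Agent.H11Strict.StrictCurve

/-!
# Divisors with irreducible support on locally factorial schemes are powers of integral divisors
-/

set_option autoImplicit false
set_option linter.style.haveILetI false
set_option linter.unusedSectionVars false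
set_option backward.isDefEq.respectTransparency false

universe u

open CategoryTheory CategoryTheory.Limits AlgebraicGeometry TopologicalSpace Opposite IsLocalRing
open Groth.Agent Groth.Agent.H29Ref

noncomputable section

namespace Groth.Agent.H25FM.DivPow

local notation "stI" => IntMult.stalkIdeal

variable {X : Scheme.{u}}

/-- An effective Cartier ideal with irreducible support on a locally factorial scheme is a power of a prime one. -/
theorem exists_pow_eq [IsLocallyNoetherian X] [IsIntegral X] (hufd : ∀ x : X, UniqueFactorizationMonoid (X.presheaf.stalk x))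
    (I : X.IdealSheafData) (hI : BlowUp.IsEffCartierIdeal I) [IrreducibleSpace I.subscheme] :
    ∃ (D : X.IdealSheafData) (m : ℕ), BlowUp.IsEffCartierIdeal D ∧ IsIntegral D.subscheme ∧ 1 ≤ m ∧ I = D ^ m := by
  let e0 := I.subschemeι (genericPoint I.subscheme)
  have he0I : e0 ∈ (I.support : Set X) := by
    rw [← Scheme.IdealSheafData.range_subschemeι]; exact Set.mem_range_self _
  have hcl : closure ({e0} : Set X) = (I.support : Set X) := by
    rw [← I.range_subschemeι]
    refine (closure_minimal (Set.singleton_subset_iff.2 (Set.mem_range_self _))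
      I.subschemeι.isClosedEmbedding.isClosed_range).antisymm ?_
    rintro _ ⟨d, rfl⟩
    exact specializes_iff_mem_closure.1
      (((genericPoint_spec I.subscheme).specializes (Set.mem_univ d)).map I.subschemeι.continuous)
  have hcl' : H22Alg.DevLength.cl e0 = I.support := SetLike.coe_injective hcl
  let D := Scheme.IdealSheafData.vanishingIdeal (H22Alg.DevLength.cl e0)
  have hDr : D = I.radical := (congrArg Scheme.IdealSheafData.vanishingIdeal hcl').trans
    Scheme.IdealSheafData.vanishingIdeal_support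
  haveI hDint : IsIntegral D.subscheme := H22Alg.isIntegral_vanishingIdeal_closure e0
  have hDs : D.support = I.support := by rw [hDr]; rfl
  have hDe0 : D.subschemeι (genericPoint D.subscheme) = e0 := by
    obtain ⟨h1, h2⟩ := gen_spec hDint
    rw [hDs] at h1 h2
    exact ((h2 e0 he0I).antisymm (specializes_iff_mem_closure.2 (hcl.ge h1))).eq
  obtain ⟨ξ, hDξ⟩ : ∃ ξ, D.subschemeι (genericPoint D.subscheme) = ξ := ⟨_, rfl⟩
  rw [← hDe0, hDξ] at he0I hcl
  rename' he0I => hξI
  have hcodim : ringKrullDim (X.presheaf.stalk (D.subschemeι (genericPoint D.subscheme))) = 1 := by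
    rw [hDξ]
    obtain ⟨U, hU, f, hf, hUf⟩ := hI ξ
    exact H11Div.ringKrullDim_stalk_eq_one I U f hf hUf ⟨ξ, hU⟩ hξI fun y hy hyξ =>
      (hyξ.antisymm (specializes_iff_mem_closure.2 (hcl.ge hy))).eq
  have hD : BlowUp.IsEffCartierIdeal D :=
    Groth.Agent.S1684.result X D hcodim fun x _ => ⟨inferInstance, hufd x⟩
  -- the exponent at the generic point
  obtain ⟨f, hmax, hf, hDfx⟩ : ∃ f, maximalIdeal (X.presheaf.stalk ξ) = Ideal.span {f} ∧
      f ∈ nonZeroDivisors (X.presheaf.stalk ξ) ∧ stI D ξ = Ideal.span {f} := by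
    subst hDξ
    obtain ⟨f, hmax, hf, -, -⟩ := gen_structure hDint hD
    exact ⟨f, hmax, hf, (stalkIdeal_gen hDint).trans hmax⟩
  have hIξ : stI I ξ ≠ ⊥ := fun h => by
    obtain ⟨g, hg, hg'⟩ := exists_stalk_gen hI ξ
    rw [h, eq_comm, Ideal.span_singleton_eq_bot] at hg'
    exact zero_notMem_nonZeroDivisors (hg' ▸ hg)
  obtain ⟨m, hm⟩ := exists_eq_span_pow f hmax _ hIξ
  have hfu : ¬ IsUnit f := fun h => (maximalIdeal.isMaximal _).ne_top (hmax.trans (Ideal.span_singleton_eq_top.2 h))
  have hf0 : f ≠ 0 := nonZeroDivisors.ne_zero hf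
  have hm1 : 1 ≤ m := Nat.one_le_iff_ne_zero.2 fun h0 => by
    rw [h0, pow_zero, Ideal.span_singleton_one] at hm
    exact (stalkIdeal_eq_top_iff I ξ).1 hm hξI
  refine ⟨D, m, hD, hDint, hm1, ?_⟩
  have key : ∀ x, stI I x = stI (D ^ m) x := fun x => by
    rw [stalkIdeal_pow]
    by_cases hx : x ∈ I.support
    swap
    · rw [(stalkIdeal_eq_top_iff I x).2 hx, (stalkIdeal_eq_top_iff D x).2 (hDs ▸ hx)]
      exact (Ideal.top_pow _ m).symm
    have hs : ξ ⤳ x := specializes_iff_mem_closure.2 (hcl.ge hx)
    obtain ⟨g, hg, hgI⟩ := exists_stalk_gen hI x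
    obtain ⟨π, hπ, hπD⟩ := exists_stalk_gen hD x
    have hπ0 : π ≠ 0 := nonZeroDivisors.ne_zero hπ
    have hsp : stI D ξ = (stI D x).map (X.presheaf.stalkSpecializes hs).hom := stalkIdeal_specializes D hs
    have hmem : ∀ a : X.presheaf.stalk x, X.presheaf.stalkSpecializes hs a ∈ maximalIdeal (X.presheaf.stalk ξ) →
        a ∈ stI D x := by
      clear * - hDint hDξ hDs hx
      subst hDξ
      exact mem_stalkIdeal_of_gen hDint hs (hDs ▸ hx)
    have hmapne : ∀ a : X.presheaf.stalk x, a ∈ stI D x ↔
        X.presheaf.stalkSpecializes hs a ∈ maximalIdeal (X.presheaf.stalk ξ) := fun a => by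
      constructor
      · intro ha
        rw [hmax, ← hDfx, hsp]
        exact Ideal.mem_map_of_mem _ ha
      · intro ha
        exact hmem a ha
    haveI hp : (stI D x).IsPrime := by
      rw [show stI D x = (maximalIdeal (X.presheaf.stalk ξ)).comap (X.presheaf.stalkSpecializes hs).hom from
        Ideal.ext hmapne]
      infer_instance
    have hprime : Prime π := (Ideal.span_singleton_prime hπ0).1 (hπD ▸ hp)
    obtain ⟨n, hn⟩ : ∃ n : ℕ, g ∣ π ^ n := by
      obtain ⟨V, hV, hxV, -⟩ := exists_isAffineOpen_mem_and_subset (X := X) (x := x) (U := ⊤) trivial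
      have hle : stI D x ≤ (stI I x).radical := by
        rw [stalkIdeal_eq D x ⟨V, hV⟩ hxV, stalkIdeal_eq I x ⟨V, hV⟩ hxV, hDr,
          Scheme.IdealSheafData.radical_ideal]
        exact Ideal.map_radical_le _
      obtain ⟨n, hn⟩ := hle (hπD ▸ Ideal.mem_span_singleton_self π)
      exact ⟨n, Ideal.mem_span_singleton.1 (hgI ▸ hn)⟩
    haveI := hufd x
    obtain ⟨a, -, ha⟩ := (dvd_prime_pow hprime n).1 hn
    have hIx : stI I x = Ideal.span {π} ^ a := by
      rw [hgI, Ideal.span_singleton_pow, Ideal.span_singleton_eq_span_singleton]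
      exact ha
    have ham : a = m := by
      have h1 := stalkIdeal_specializes I hs
      rw [hIx, ← hπD, Ideal.map_pow, ← hsp, hDfx, hm, Ideal.span_singleton_pow] at h1
      have h2 := Ideal.span_singleton_eq_span_singleton.1 h1
      exact le_antisymm ((pow_dvd_pow_iff hf0 hfu).1 h2.symm.dvd) ((pow_dvd_pow_iff hf0 hfu).1 h2.dvd)
    rw [hIx, hπD, ham]
  refine Scheme.IdealSheafData.ext (funext fun V => le_antisymm ?_ ?_)
  · exact le_of_stalkIdeal_le V fun x _ => (key x).le
  · exact le_of_stalkIdeal_le V fun x _ => (key x).ge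

/-- The zero scheme of a nonzero section on an integral scheme is an effective Cartier ideal. -/
theorem isEffCartierIdeal_zeroScheme [IsIntegral X] {L : X.Modules} (hL : PicF.IsInvertible L)
    (s : Coh.structureModule X ⟶ L) (hs : s ≠ 0) :
    BlowUp.IsEffCartierIdeal (PicF2.zeroScheme L s) ∧
      PicF2.zeroScheme L s = H12Pic.PicCurve.zeroIdeal L s hL := by
  have hr := H28Mero.isRegularSection_of_ne_zero L s hL hs
  have he : PicF2.zeroScheme L s = H12Pic.PicCurve.zeroIdeal L s hL :=
    Scheme.IdealSheafData.ext (funext fun V =>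
      (H28Mero.zeroScheme_ideal L s hL hr V).trans (H28Mero.germIdealSheaf_ideal _ _ _).symm)
  refine ⟨fun x => ?_, he⟩
  obtain ⟨D, hD, -, -⟩ := H28Mero.exists_divisor_zeroScheme L s hL hr
  obtain ⟨U, hxU, f, hf, hUf, -⟩ := hD x
  refine ⟨U, hxU, f, mem_nonZeroDivisors_iff_right.2 fun b hb => ?_, hUf⟩
  refine TopCat.Presheaf.section_ext ⟨X.presheaf, X.sheaf.2⟩ U.1 b 0 fun y hy => ?_
  have h1 : X.presheaf.germ U.1 y hy b * X.presheaf.germ U.1 y hy f = 0 := by
    rw [← map_mul, hb, map_zero]
  exact (mem_nonZeroDivisors_iff_right.1 (hf ⟨y, hy⟩) _ h1).trans (map_zero _).symm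

end Groth.Agent.H25FM.DivPow
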