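import Groth.Agent.H25Dual.Bilinear
import Groth.Agent.H25FM.Calc

/-!
# Squares and classes on products of abelian varieties
-/

set_option autoImplicit false
set_option linter.style.haveILetI false
set_option linter.unusedSectionVars false
set_option backward.isDefEq.respectTransparency false
set_option synthInstance.maxHeartbeats 400000

universe u

open CategoryTheory CategoryTheory.Limits MonoidalCategory CartesianMonoidalCategory MonObj AlgebraicGeometry
open Groth.Agent Groth.Agent.H25AbCube Groth.Agent.H25Dual

noncomputable section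

namespace Groth.Agent.H25FM

section Squares

variable {S : Scheme.{u}} {X Y Z W : Over S}

/-- The product square. -/
theorem isPullback_prod (X Y : Over S) : IsPullback (fst X Y).left (snd X Y).left X.hom Y.hom :=
  IsPullback.of_hasPullback X.hom Y.hom

/-- Base change along a map of the base. -/
theorem isPullback_whiskerLeft (X : Over S) (t : Z ⟶ Y) :
    IsPullback (X ◁ t).left (snd X Z).left (snd X Y).left t.left := by
  have h0 : IsPullback ((X ◁ t).left ≫ (fst X Y).left) (snd X Z).left X.hom (t.left ≫ Y.hom) := by
    rw [← Over.comp_left, whiskerLeft_fst, Over.w t]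
    exact isPullback_prod X Z
  refine IsPullback.of_right h0 ?_ (isPullback_prod X Y)
  rw [← Over.comp_left, ← Over.comp_left, whiskerLeft_snd]

/-- Base change along a map of the fibre. -/
theorem isPullback_whiskerRight (f : X ⟶ Y) (Z : Over S) :
    IsPullback (fst X Z).left (f ▷ Z).left f.left (fst Y Z).left := by
  have h0 : IsPullback (fst X Z).left ((f ▷ Z).left ≫ (snd Y Z).left) (f.left ≫ Y.hom) Z.hom := by
    rw [← Over.comp_left, whiskerRight_snd, Over.w f]
    exact isPullback_prod X Z
  refine IsPullback.of_bot h0 ?_ (isPullback_prod Y Z)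
  rw [← Over.comp_left, ← Over.comp_left, whiskerRight_fst]

end Squares

variable {k : Type u} [Field k] {X : Over (Spec (CommRingCat.of k))} {A At : Over (Spec (CommRingCat.of k))}

theorem ev_id (L : PC X.left) : ev L (𝟙 X) = L := pullP_id L

/-- A point gives the fibre square. -/
theorem isPullback_point (x : 𝟙_ (Over (Spec (CommRingCat.of k))) ⟶ At) :
    IsPullback (lift (𝟙 A) (toUnit A ≫ x)).left A.hom (snd A At).left x.left := by
  have h0 : IsPullback ((lift (𝟙 A) (toUnit A ≫ x)).left ≫ (fst A At).left) A.hom A.hom (x.left ≫ At.hom) := by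
    rw [← Over.comp_left, lift_fst, Over.w x]
    exact IsPullback.id_horiz A.hom
  refine IsPullback.of_right h0 ?_ (isPullback_prod A At)
  rw [← Over.comp_left, lift_snd, Over.comp_left, Over.toUnit_left]

/-- A translation is an isomorphism. -/
theorem isIso_transl [GrpObj A] (x : 𝟙_ (Over (Spec (CommRingCat.of k))) ⟶ A) :
    IsIso (𝟙 A * (toUnit A ≫ x)) := by
  have key : ∀ y z : 𝟙_ (Over (Spec (CommRingCat.of k))) ⟶ A, y * z = 1 →
      (𝟙 A * (toUnit A ≫ y)) ≫ (𝟙 A * (toUnit A ≫ z)) = 𝟙 A := by
    intro y z h
    rw [MonObj.comp_mul, Category.comp_id, ← Category.assoc,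
      toUnit_unique ((𝟙 A * (toUnit A ≫ y)) ≫ toUnit A) (toUnit A), _root_.mul_assoc, ← MonObj.comp_mul,
      h, MonObj.comp_one, _root_.mul_one]
  exact ⟨_, key x x⁻¹ (mul_inv_cancel x), key x⁻¹ x (inv_mul_cancel x)⟩

/-- Shear: the group law and the second projection form the product square. -/
theorem isPullback_mul [GrpObj A] : IsPullback μ[A].left (snd A A).left A.hom A.hom := by
  let s : A ⊗ A ⟶ A ⊗ A := lift μ[A] (snd A A)
  have hμ : μ[A] = fst A A * snd A A :=
    ((congrArg (· ≫ μ[A]) lift_fst_snd).trans (Category.id_comp _)).symm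
  let s' : A ⊗ A ⟶ A ⊗ A := lift (fst A A * (snd A A)⁻¹) (snd A A)
  haveI : IsIso s := by
    refine ⟨s', ?_, ?_⟩
    · apply CartesianMonoidalCategory.hom_ext
      · rw [Category.assoc, lift_fst, MonObj.comp_mul, lift_fst, GrpObj.comp_inv, lift_snd, hμ,
          _root_.mul_assoc, mul_inv_cancel, _root_.mul_one, Category.id_comp]
      · rw [Category.assoc, lift_snd, lift_snd, Category.id_comp]
    · apply CartesianMonoidalCategory.hom_ext
      · rw [Category.assoc, lift_fst, hμ, MonObj.comp_mul, lift_fst, lift_snd,
          _root_.mul_assoc, inv_mul_cancel, _root_.mul_one, Category.id_comp]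
      · rw [Category.assoc, lift_snd, lift_snd, Category.id_comp]
  haveI : IsIso s.left := inferInstanceAs (IsIso ((Over.forget _).map s))
  refine (isPullback_prod A A).of_iso' (asIso s.left) (Iso.refl _) (Iso.refl _) (Iso.refl _) ?_ ?_ ?_ ?_
  all_goals simp [s, ← Over.comp_left]

end Groth.Agent.H25FM
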