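import Groth.Agent.H25FM.Inversion
import Groth.Agent.H16Derived.QCohD.RpushUnb

/-!
# Equivalences of categories of objects with quasi-coherent cohomology
-/

set_option autoImplicit false
set_option linter.style.haveILetI false
set_option linter.unusedSectionVars false
set_option backward.isDefEq.respectTransparency false

universe u

open CategoryTheory CategoryTheory.Limits AlgebraicGeometry
open Groth.Agent.H16Derived Groth.Agent.H16Derived.KFlat Groth.Agent.H16Derived.KFlat.Stalk

noncomputable section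

attribute [local instance] HasDerivedCategory.standard

namespace Groth.Agent.H25FM

variable {X : Scheme.{u}}

theorem isQCohD_pull_shift (i : X ⟶ X) [DCoh.HasLpull i] (n : ℤ) {K : DCoh.D X} (hK : DCoh.IsQCohD K) :
    DCoh.IsQCohD ((DCoh.Lpull i ⋙ shiftFunctor (DCoh.D X) n).obj K) :=
  QCohD.HomVanish.isQCohD_shift (QCohD.isQCohD_lpull i hK) n

/-- Pullback along an involution followed by a shift is an autoequivalence. -/
theorem isEquivalence_pull_shift (i : X ⟶ X) (hi : i ≫ i = 𝟙 X) [DCoh.HasLpull i] (n : ℤ) :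
    (ObjectProperty.lift (DCoh.IsQCohD (X := X))
      (ObjectProperty.ι (DCoh.IsQCohD (X := X)) ⋙ DCoh.Lpull i ⋙ shiftFunctor (DCoh.D X) n)
      fun M => isQCohD_pull_shift i n M.property).IsEquivalence := by
  haveI : DCoh.HasLpull (𝟙 X) := hasLpull _
  obtain ⟨a⟩ := nonempty_lpull_comp i i (𝟙 X) hi
  obtain ⟨b⟩ := nonempty_lpull_id X
  let eL := CategoryTheory.Equivalence.mk (DCoh.Lpull i) (DCoh.Lpull i) (a ≪≫ b).symm (a ≪≫ b)
  haveI : (DCoh.Lpull i).IsEquivalence := eL.isEquivalence_functor
  let W := ObjectProperty.ι (DCoh.IsQCohD (X := X))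
  let F := W ⋙ DCoh.Lpull i ⋙ shiftFunctor (DCoh.D X) n
  let F' := ObjectProperty.lift (DCoh.IsQCohD (X := X)) F fun M => isQCohD_pull_shift i n M.property
  haveI : F.Full := inferInstance
  haveI : F.Faithful := inferInstance
  let e : F' ⋙ W ≅ F := NatIso.ofComponents (fun _ => Iso.refl _)
  haveI : (F' ⋙ W).Full := Functor.Full.of_iso e.symm
  haveI : (F' ⋙ W).Faithful := Functor.Faithful.of_iso e.symm
  haveI : F'.Faithful := Functor.Faithful.of_comp F' W
  haveI : F'.Full := Functor.Full.of_comp_faithful F' W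
  refine { faithful := inferInstance, full := inferInstance, essSurj := ⟨fun N => ?_⟩ }
  refine ⟨⟨(DCoh.Lpull i).obj ((shiftFunctor (DCoh.D X) (-n)).obj N.obj),
    QCohD.isQCohD_lpull i (QCohD.HomVanish.isQCohD_shift N.property (-n))⟩, ⟨W.preimageIso ?_⟩⟩
  exact (shiftFunctor (DCoh.D X) n).mapIso ((a ≪≫ b).app _) ≪≫
    (shiftFunctorCompIsoId (DCoh.D X) (-n) n (neg_add_cancel n)).app N.obj

/-- A functor with equivalences as composites on both sides is an equivalence. -/
theorem isEquivalence_of_comp_both {C D : Type*} [Category C] [Category D] (F : C ⥤ D) (G : D ⥤ C)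
    (h : (F ⋙ G).IsEquivalence) (h' : (G ⋙ F).IsEquivalence) : F.IsEquivalence := by
  haveI : G.Faithful := Functor.Faithful.of_comp G F
  haveI : F.Faithful := Functor.Faithful.of_comp F G
  haveI : F.Full := Functor.Full.of_comp_faithful F G
  refine { faithful := inferInstance, full := inferInstance, essSurj := ⟨fun Y => ?_⟩ }
  exact ⟨G.obj ((G ⋙ F).objPreimage Y), ⟨(G ⋙ F).objObjPreimageIso Y⟩⟩

end Groth.Agent.H25FM
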