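import Groth.Agent.H25FM.Mukai

/-!
# Composite of two transforms with transposed kernels
-/

set_option autoImplicit false
set_option linter.style.haveILetI false
set_option linter.unusedSectionVars false
set_option backward.isDefEq.respectTransparency false
set_option synthInstance.maxHeartbeats 400000
set_option maxHeartbeats 2000000

universe u

open CategoryTheory CategoryTheory.Limits MonoidalCategory CartesianMonoidalCategory MonObj AlgebraicGeometry
open Groth.Agent Groth.Agent.H25AbCube Groth.Agent.H25Dual Groth.Agent.H25Poinc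
open Groth.Agent.H16Derived Groth.Agent.H16Derived.KFlat Groth.Agent.H16Derived.KFlat.Stalk

noncomputable section

attribute [local instance] HasDerivedCategory.standard

namespace Groth.Agent.H25FM

variable {k : Type u} [Field k] {A At : Over (Spec (CommRingCat.of k))} [GrpObj A] [IsProper A.hom]
  [GeometricallyIntegral A.hom] [Flat A.hom] [GrpObj At] [IsProper At.hom] [GeometricallyIntegral At.hom]
  (P : (A ⊗ At).left.Modules) (hP : PicF.IsInvertible P) (P' : (At ⊗ A).left.Modules) (hP' : PicF.IsInvertible P')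

/-- Mukai's inversion, for a bilinear class universal over `A`. -/
theorem nonempty_comp
    (h' : pc (X := (At ⊗ A).left) P' hP' = ev (pc (X := (A ⊗ At).left) P hP) (lift (snd At A) (fst At A)))
    (hU : Universal At A P' hP') (g : ℕ) (hgt : topologicalKrullDim At.left = g) (hg : topologicalKrullDim A.left = g)
    (hb : ∀ {T : Over (Spec (CommRingCat.of k))} (a a' : T ⟶ A) (b : T ⟶ At),
      ev (pc (X := (A ⊗ At).left) P hP) (lift (a * a') b) =
        ev (pc (X := (A ⊗ At).left) P hP) (lift a b) + ev (pc (X := (A ⊗ At).left) P hP) (lift a' b))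
    [DCoh.HasLpull (fst A At).left] [DCoh.HasLTensorMod P] [DCoh.HasRpush (snd A At).left]
    [DCoh.HasLpull (fst At A).left] [DCoh.HasLTensorMod P'] [DCoh.HasRpush (snd At A).left]
    [DCoh.HasLpull ((𝟙 A)⁻¹ : A ⟶ A).left] :
    Nonempty (ObjectProperty.ι (DCoh.IsQCohD (X := A.left)) ⋙
        (DCoh.Lpull (fst A At).left ⋙ DCoh.LTensorMod P ⋙ DCoh.Rpush (snd A At).left) ⋙
        (DCoh.Lpull (fst At A).left ⋙ DCoh.LTensorMod P' ⋙ DCoh.Rpush (snd At A).left) ≅
      ObjectProperty.ι (DCoh.IsQCohD (X := A.left)) ⋙ DCoh.Lpull ((𝟙 A)⁻¹ : A ⟶ A).left ⋙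
        shiftFunctor (DCoh.D A.left) (-(g : ℤ))) := by
  let n : ℤ := -(g : ℤ)
  let p := (fst A At).left
  let q := (snd A At).left
  let p' := (fst At A).left
  let q' := (snd At A).left
  let π := (snd A (At ⊗ A)).left
  let ν₀ := (A ◁ fst At A).left
  let o1 := (fst A (At ⊗ A)).left
  let o3 := (snd A (At ⊗ A) ≫ snd At A).left
  let νo : A ⊗ (At ⊗ A) ⟶ A ⊗ At :=
    lift (fst A (At ⊗ A) * (snd A (At ⊗ A) ≫ snd At A)) (snd A (At ⊗ A) ≫ fst At A)
  let ν := νo.left
  let w := (lift (fst A (At ⊗ A)) (snd A (At ⊗ A) ≫ snd At A)).left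
  let a1 := (fst A A).left
  let a2 := (snd A A).left
  let d := (lift (𝟙 A) (𝟙 A)⁻¹).left
  let i := ((𝟙 A)⁻¹ : A ⟶ A).left
  haveI : Flat q := inferInstanceAs (Flat (pullback.snd A.hom At.hom))
  haveI : QuasiCompact q := inferInstanceAs (QuasiCompact (pullback.snd A.hom At.hom))
  haveI : QuasiSeparated q := inferInstanceAs (QuasiSeparated (pullback.snd A.hom At.hom))
  have hνP := H11Ample.isInvertible_pullback ν hP
  have hν₀P := H11Ample.isInvertible_pullback ν₀ hP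
  have hπP := H11Ample.isInvertible_pullback π hP'
  have hT := H11Ample.isInvertible_tensor hν₀P hπP
  haveI : DCoh.HasLpull ν₀ := hasLpull _
  haveI : DCoh.HasRpush π := GammaAcyclic.hasRpush _
  haveI : DCoh.HasRpush o3 := GammaAcyclic.hasRpush _
  haveI : DCoh.HasLpull o1 := hasLpull _
  haveI : DCoh.HasLpull a1 := hasLpull _
  haveI : DCoh.HasLpull w := hasLpull _
  haveI : DCoh.HasRpush w := GammaAcyclic.hasRpush _
  haveI : DCoh.HasRpush a2 := GammaAcyclic.hasRpush _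
  haveI : DCoh.HasLpull d := hasLpull _
  haveI : DCoh.HasRpush d := GammaAcyclic.hasRpush _
  haveI : DCoh.HasLpull (𝟙 A.left) := hasLpull _
  haveI : DCoh.HasLpull i := ‹DCoh.HasLpull ((𝟙 A)⁻¹).left›
  haveI : DCoh.HasRpush i := GammaAcyclic.hasRpush _
  let N₀ := (Scheme.Modules.pullback ν₀).obj P
  let N := (Scheme.Modules.pullback π).obj P'
  let M := (Scheme.Modules.pullback ν).obj P
  haveI : DCoh.HasLTensorMod N₀ := hasLTensorMod _
  haveI : DCoh.HasLTensorMod N := hasLTensorMod _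
  haveI : DCoh.HasLTensorMod M := hasLTensorMod _
  haveI : DCoh.HasLTensorMod (CohB1.tensorMod N₀ N) := hasLTensorMod _
  -- the classes
  obtain ⟨key⟩ : Nonempty (CohB1.tensorMod N₀ N ≅ M) := by
    refine (pc_eq_iff hT hνP).1 ?_
    let u : PC (A ⊗ At).left := pc P hP
    rw [pc_tensor hν₀P hπP, pullP_pc ν₀ P hP hν₀P, pullP_pc π P' hP' hπP, pullP_pc ν P hP hνP,
      show pc P' hP' = ev u (lift (snd At A) (fst At A)) from h']
    show ev u (A ◁ fst At A) + ev (ev u (lift (snd At A) (fst At A))) (snd A (At ⊗ A)) = ev u νo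
    rw [ev_comp, comp_lift, hb,
      show A ◁ fst At A = lift (fst A (At ⊗ A)) (snd A (At ⊗ A) ≫ fst At A) by
        apply CartesianMonoidalCategory.hom_ext <;> simp]
  let W := ObjectProperty.ι (DCoh.IsQCohD (X := A.left))
  -- the composite is a transform with kernel M
  obtain ⟨e1⟩ := nonempty_baseChange (W ⋙ DCoh.Lpull p ⋙ DCoh.LTensorMod (X := (A ⊗ At).left) P)
    (fun c => isQCohD_ltensorMod hP (QCohD.isQCohD_lpull p c.property))
    (isPullback_whiskerLeft A (fst At A)) (BaseChange.ti_of_flat q p')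
  obtain ⟨e2⟩ := nonempty_lpull_ltensorMod ν₀ (M := P) (isFlat_invertible hP)
  obtain ⟨e3⟩ := nonempty_lpull_comp ν₀ p o1 (by rw [← Over.comp_left, whiskerLeft_fst])
  obtain ⟨e4⟩ := nonempty_projection π hP'
  obtain ⟨e5⟩ := nonempty_rpush_comp π q' o3 rfl
  obtain ⟨e6⟩ := nonempty_ltensorMod_comp hν₀P hπP
  obtain ⟨e7⟩ := nonempty_ltensorMod_congr key (isFlat_invertible hT)
  -- through the product of A with itself
  obtain ⟨f1⟩ := nonempty_lpull_comp w a1 o1 (by
    rw [← Over.comp_left]; exact congrArg Over.Hom.left (lift_fst _ _))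
  obtain ⟨f2⟩ := nonempty_rpush_comp w a2 o3 (by
    rw [← Over.comp_left]; exact congrArg Over.Hom.left (lift_snd _ _))
  obtain ⟨f3⟩ := nonempty_T_inD (M := M) (isFlat_invertible hνP)
  haveI : QuasiCompact w := by
    haveI : QuasiCompact (w ≫ (A ⊗ A).hom) := by
      rw [show w ≫ (A ⊗ A).hom = (A ⊗ (At ⊗ A)).hom from Over.w _]; infer_instance
    exact QuasiCompact.of_comp w (A ⊗ A).hom
  haveI : QuasiSeparated w := by
    haveI : QuasiSeparated (w ≫ (A ⊗ A).hom) := by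
      rw [show w ≫ (A ⊗ A).hom = (A ⊗ (At ⊗ A)).hom from Over.w _]; infer_instance
    exact QuasiSeparated.of_comp w (A ⊗ A).hom
  haveI : QuasiCompact d := by
    haveI : QuasiCompact (d ≫ (A ⊗ A).hom) := by
      rw [show d ≫ (A ⊗ A).hom = A.hom from Over.w _]; infer_instance
    exact QuasiCompact.of_comp d (A ⊗ A).hom
  haveI : QuasiSeparated d := by
    haveI : QuasiSeparated (d ≫ (A ⊗ A).hom) := by
      rw [show d ≫ (A ⊗ A).hom = A.hom from Over.w _]; infer_instance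
    exact QuasiSeparated.of_comp d (A ⊗ A).hom
  obtain ⟨f4⟩ := nonempty_projection_T (W ⋙ DCoh.Lpull a1)
    (fun c => QCohD.isQCohD_lpull a1 c.property) w (DCoh.inD _ M)
    (isQCohD_inD (H11Ample.isCoh_of_isInvertible hνP).1)
  obtain ⟨K⟩ := nonempty_kernel P hP P' hP' h' hU g hgt hg
  obtain ⟨f5⟩ := nonempty_projection_T (W ⋙ DCoh.Lpull a1)
    (fun c => QCohD.isQCohD_lpull a1 c.property) d
    ((shiftFunctor (DCoh.D A.left) n).obj (DCoh.inD A.left (Coh.structureModule A.left)))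
    (QCohD.HomVanish.isQCohD_shift
      (isQCohD_inD (H11Ample.isCoh_of_isInvertible H11Ample.isInvertible_structureModule).1) n)
  obtain ⟨f6⟩ := nonempty_T_shift_structure A.left n
  obtain ⟨f7⟩ := nonempty_lpull_comp d a1 (𝟙 A.left) (by rw [← Over.comp_left, lift_fst, Over.id_left])
  obtain ⟨f8⟩ := nonempty_lpull_id A.left
  obtain ⟨f9⟩ := nonempty_rpush_comp d a2 i (by rw [← Over.comp_left, lift_snd])
  obtain ⟨f10⟩ := nonempty_rpush_inv (A := A)
  letI := rpushCommShift i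
  exact ⟨Functor.isoWhiskerRight e1 (DCoh.LTensorMod P' ⋙ DCoh.Rpush q') ≪≫
    Functor.isoWhiskerLeft (W ⋙ DCoh.Lpull p)
      (Functor.isoWhiskerRight e2 (DCoh.Rpush π ⋙ DCoh.LTensorMod P' ⋙ DCoh.Rpush q')) ≪≫
    Functor.isoWhiskerLeft W (Functor.isoWhiskerRight e3
      (DCoh.LTensorMod N₀ ⋙ DCoh.Rpush π ⋙ DCoh.LTensorMod P' ⋙ DCoh.Rpush q')) ≪≫
    Functor.isoWhiskerLeft (W ⋙ DCoh.Lpull o1 ⋙ DCoh.LTensorMod N₀) (Functor.isoWhiskerRight e4 (DCoh.Rpush q')) ≪≫
    Functor.isoWhiskerLeft (W ⋙ DCoh.Lpull o1 ⋙ DCoh.LTensorMod N₀ ⋙ DCoh.LTensorMod N) e5 ≪≫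
    Functor.isoWhiskerLeft (W ⋙ DCoh.Lpull o1) (Functor.isoWhiskerRight (e6 ≪≫ e7) (DCoh.Rpush o3)) ≪≫
    Functor.isoWhiskerLeft W (Functor.isoWhiskerRight f1.symm (DCoh.LTensorMod M ⋙ DCoh.Rpush o3)) ≪≫
    Functor.isoWhiskerLeft (W ⋙ DCoh.Lpull a1 ⋙ DCoh.Lpull w)
      (Functor.isoWhiskerRight f3.symm (DCoh.Rpush o3) ≪≫
        Functor.isoWhiskerLeft ((Dual.T _).obj (DCoh.inD _ M)) f2.symm) ≪≫
    Functor.isoWhiskerRight f4.symm (DCoh.Rpush a2) ≪≫
    Functor.isoWhiskerRight (Functor.isoWhiskerLeft (W ⋙ DCoh.Lpull a1) ((Dual.T _).mapIso K) ≪≫ f5)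
      (DCoh.Rpush a2) ≪≫
    Functor.isoWhiskerLeft W (Functor.isoWhiskerRight (f7 ≪≫ f8)
      ((Dual.T A.left).obj ((shiftFunctor (DCoh.D A.left) n).obj (DCoh.inD A.left (Coh.structureModule A.left))) ⋙
        DCoh.Rpush d ⋙ DCoh.Rpush a2)) ≪≫
    Functor.isoWhiskerLeft W (Functor.isoWhiskerRight f6 (DCoh.Rpush d ⋙ DCoh.Rpush a2) ≪≫
      Functor.isoWhiskerLeft (shiftFunctor (DCoh.D A.left) n) f9 ≪≫ (DCoh.Rpush i).commShiftIso n ≪≫
      Functor.isoWhiskerRight f10 _)⟩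

end Groth.Agent.H25FM
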