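import Groth.Agent.H25Hat.BaseK
import Groth.Agent.H25Hat.Universal
import Groth.Agent.H25Poinc.Global
import Groth.Agent.H25Dual.DegLam

/-!
# The transpose of the Poincaré module is universal
-/

set_option autoImplicit false
set_option linter.style.haveILetI false
set_option linter.unusedSectionVars false
set_option backward.isDefEq.respectTransparency false
set_option synthInstance.maxHeartbeats 400000
set_option maxHeartbeats 1600000
universe u

open CategoryTheory CategoryTheory.Limits MonoidalCategory CartesianMonoidalCategory MonObj AlgebraicGeometry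
open Groth.Agent Groth.Agent.H25AbCube Groth.Agent.H25Dual Groth.Agent.H25Poinc
open Groth.Agent.H25Index (gM FixFinite)

noncomputable section

attribute [local instance] H10Coh.enoughInjMod Functor.grpObjObj

namespace Groth.Agent.H25FM

variable {k : Type u} [Field k] {A At : Over (Spec (CommRingCat.of k))} [GrpObj A] [IsProper A.hom]
  [GeometricallyIntegral A.hom] [GrpObj At] [IsProper At.hom] [GeometricallyIntegral At.hom]
  {φ : ∀ T : Over (Spec (CommRingCat.of k)), PicF.Cl (PicF.XT A.hom T) → (T ⟶ At)}
  (hφ : AbDual.IsDualAV Scheme.fppfPrecoverage A At φ) (P : (A ⊗ At).left.Modules) (hP : PicF.IsInvertible P)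
  (hξ : AbDual.IsPoincareCl A At φ (PicF.cl P))

include hφ hP hξ in
/-- The Poincaré class separates the points of the variety. -/
theorem triv_swap {T : Over (Spec (CommRingCat.of k))} (x : T ⟶ A)
    (hx : ev (pc (X := (A ⊗ At).left) P hP) (x ▷ At) = 0) : x = 1 := by
  haveI : IsCommMonObj A := isCommMonObj_of_av
  haveI : IsCommMonObj At := isCommMonObj_of_av
  let W := A ⊗ At
  haveI : IsProper W.hom := inferInstanceAs (IsProper (A ⊗ At).hom)
  haveI : GeometricallyIntegral W.hom := H25Rig.geometricallyIntegral_tensor A At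
  let u : PC W.left := pc P hP
  have hf := fun S => poincare_facts hφ P hP hξ (T := S)
  have hl : ∀ {S : Over (Spec (CommRingCat.of k))} (b : S ⟶ At), ev u (lift 1 b) = 0 := fun b => (hf _).1 b
  have hr' : ∀ {S : Over (Spec (CommRingCat.of k))} (a : S ⟶ A), ev u (lift a 1) = 0 := fun a => (hf _).2.1 a
  -- the pairing on the product
  have key : ∀ {S : Over (Spec (CommRingCat.of k))} (p q : S ⟶ W), ev (theta u) (lift p q) =
      ev u (lift (p ≫ fst A At) (q ≫ snd A At)) + ev u (lift (q ≫ fst A At) (p ≫ snd A At)) := by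
    intro S p q
    obtain ⟨-, -, hb1, hb2⟩ := hf S
    have h : ∀ (a b : S ⟶ A) (t s : S ⟶ At), ev u (lift a t * lift b s) - ev u (lift a t) - ev u (lift b s) =
        ev u (lift a s) + ev u (lift b t) := fun a b t s => by
      rw [lift_mul_lift, hb1, hb2, hb2]
      abel
    have hp : p = lift (p ≫ fst A At) (p ≫ snd A At) := by
      apply CartesianMonoidalCategory.hom_ext <;> simp
    have hq : q = lift (q ≫ fst A At) (q ≫ snd A At) := by
      apply CartesianMonoidalCategory.hom_ext <;> simp
    rw [ev_theta]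
    conv_lhs => rw [hp, hq]
    exact h _ _ _ _
  obtain ⟨K, _, j, hj, hjc, hK⟩ := H25Hat.exists_fixing (A := W) u
  haveI := hj; haveI := hjc
  have hk : ∀ {S : Over (Spec (CommRingCat.of k))} (p : S ⟶ W) (z : S ⟶ K),
      ev u (lift (p ≫ fst A At) (z ≫ j ≫ snd A At)) + ev u (lift (z ≫ j ≫ fst A At) (p ≫ snd A At)) = 0 := by
    intro S p z
    have h : ev (ev (theta u) (W ◁ j)) (lift p z) = 0 := by
      rw [(hK K j).1 ⟨𝟙 K, Category.id_comp j⟩]
      exact map_zero _
    rw [ev_comp, show lift p z ≫ (W ◁ j) = lift p (z ≫ j) by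
      apply CartesianMonoidalCategory.hom_ext <;> simp, key] at h
    simpa only [Category.assoc] using h
  let x₀ : K ⟶ A := j ≫ fst A At
  have hs : j ≫ snd A At = 1 := (universal hφ P hP hξ).triv _ (by
    have h := hk (lift (fst A K) 1) (snd A K)
    simp only [lift_fst, lift_snd, hr', add_zero] at h
    rw [show A ◁ (j ≫ snd A At) = lift (fst A K) (snd A K ≫ j ≫ snd A At) by
      apply CartesianMonoidalCategory.hom_ext <;> simp]
    exact h)
  have hx₀ : ev u (x₀ ▷ At) = 0 := by
    have h := hk (lift 1 (snd K At)) (fst K At)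
    simp only [lift_fst, lift_snd, hl, zero_add] at h
    rw [show x₀ ▷ At = lift (fst K At ≫ x₀) (snd K At) by
      apply CartesianMonoidalCategory.hom_ext <;> simp]
    exact h
  obtain ⟨L, hL⟩ := exists_isAmple A
  let l : PC A.left := pc L hL.1
  let f : A ⟶ At := Φ φ A (theta l)
  have huz : PZ A At u := pz_pc hP hξ.1
  have hu1 : Φ φ At u = 𝟙 At := (Φ_pc _ P hP).trans hξ.2.1
  have hfl : ev u (A ◁ f) = theta l := by
    refine rig_eq hφ (pz_ev_left f huz) (pz_theta_field l) ?_ (theta_one_left l (𝟙 A)) ?_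
    · rw [ev_comp, show lift (1 : A ⟶ A) (𝟙 A) ≫ (A ◁ f) = lift (1 : A ⟶ A) f by
        apply CartesianMonoidalCategory.hom_ext <;> simp]
      exact (hf _).1 f
    · rw [Φ_nat hφ f huz, hu1, Category.comp_id]
  have hxl : ev (theta l) (lift (fst A K) (snd A K ≫ x₀)) = 0 := by
    rw [ev_theta, mul_comm, sub_right_comm, ← ev_theta, ← hfl, ev_comp,
      show lift (snd A K ≫ x₀) (fst A K) ≫ (A ◁ f) = lift (snd A K) (fst A K ≫ f) ≫ (x₀ ▷ At) by
        apply CartesianMonoidalCategory.hom_ext <;> simp, ← ev_comp, hx₀]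
    exact map_zero _
  haveI : IsClosedImmersion x₀.left := by
    let s : A ⟶ W := lift (𝟙 A) 1
    have hj' : x₀ ≫ s = j := by
      apply CartesianMonoidalCategory.hom_ext <;> simp [x₀, s, hs]
    haveI : IsClosedImmersion (x₀.left ≫ s.left) := by
      rw [← Over.comp_left, hj']; exact hjc
    haveI : IsSeparated s.left := by
      haveI : IsSeparated (s.left ≫ W.hom) := by rw [Over.w s]; infer_instance
      exact IsSeparated.of_comp s.left W.hom
    exact IsClosedImmersion.of_comp x₀.left s.left
  haveI : IsFinite K.hom := isFinite_of_theta_eq_zero L hL x₀ hxl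
  obtain ⟨-, hr⟩ := H25Hat.euler_sq_field (A := W) P hP
    (H25Hat.fixFinite_gM (A := W) P hP j hK) j hK
  haveI : IsIntegral A.left := GeometricallyIntegral.isIntegral_of_subsingleton A.hom
  obtain ⟨g, hg⟩ := H25Grp.exists_nat_dim A.hom
  have hχ : @Curv2.euler k _ W.left ⟨W.hom⟩ P = (-1) ^ g := by
    obtain ⟨hP0, hP1, -, -⟩ := H25Poinc.global_facts hφ P hP hξ g hg
    refine (finsum_eq_single _ g fun i hi => ?_).trans ?_
    · haveI := hP0 i hi
      rw [Module.finrank_zero_of_subsingleton]
      simp
    · show (-1) ^ g * ((Module.finrank k (Coh.HH (A ⊗ At).left P g) : ℕ) : ℤ) = _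
      rw [hP1, Nat.cast_one, _root_.mul_one]
  haveI : LocallyOfFinitePresentation K.hom := LocallyOfFinitePresentation.iff_locallyOfFiniteType.2 inferInstance
  haveI : IsIso K.hom := (Scheme.Hom.isIso_iff_finrank_eq _).2 (funext fun y => by
    have h := hr y
    rw [hχ, ← pow_mul, mul_comm g 2, pow_mul, neg_one_sq, one_pow] at h
    exact_mod_cast h)
  haveI : IsIso (toUnit K) := by
    haveI : IsIso ((Over.forget _).map (toUnit K)) := by
      rw [Over.forget_map, Over.toUnit_left]; infer_instance
    exact isIso_of_reflects_iso (toUnit K) (Over.forget _)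
  obtain ⟨z, hz⟩ := (hK T (lift x 1)).2 (by
    rw [H25Hat.whisker_eq, key]
    simp only [Category.assoc, lift_fst, lift_snd, MonObj.comp_one, hr', zero_add]
    rw [show lift (snd W T ≫ x) (fst W T ≫ snd A At) = lift (snd W T) (fst W T ≫ snd A At) ≫ (x ▷ At) by
      apply CartesianMonoidalCategory.hom_ext <;> simp, ← ev_comp, hx]
    exact map_zero _)
  have h1 : z = 1 := (cancel_mono (toUnit K)).1 (toUnit_unique _ _)
  rw [h1, MonObj.one_comp] at hz
  have h2 := congrArg (· ≫ fst A At) hz.symm
  simpa [MonObj.one_comp] using h2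

include hφ hP hξ in
/-- The transpose of the Poincaré module is universal for the variety seen as the parameter space. -/
theorem universal_swap (P' : (At ⊗ A).left.Modules) (hP' : PicF.IsInvertible P')
    (h' : pc (X := (At ⊗ A).left) P' hP' = ev (pc (X := (A ⊗ At).left) P hP) (lift (snd At A) (fst At A))) :
    Universal At A P' hP' := by
  haveI : IsCommMonObj A := isCommMonObj_of_av
  haveI : IsCommMonObj At := isCommMonObj_of_av
  set u : PC (A ⊗ At).left := pc P hP
  have hev : ∀ {S : Over (Spec (CommRingCat.of k))} (t : S ⟶ At) (a : S ⟶ A),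
      ev (pc (X := (At ⊗ A).left) P' hP') (lift t a) = ev u (lift a t) := fun t a => by
    rw [h', ev_comp, comp_lift, lift_fst, lift_snd]
  have hf := fun S => poincare_facts hφ P hP hξ (T := S)
  have htriv : ∀ {S : Over (Spec (CommRingCat.of k))} (x : S ⟶ A),
      ev (pc (X := (At ⊗ A).left) P' hP') (At ◁ x) = 0 → x = 1 := fun {S} x hx => by
    refine triv_swap hφ P hP hξ x ?_
    have h := congrArg (fun v => ev v (lift (snd S At) (fst S At))) hx
    simp only [ev_comp] at h
    rw [show lift (snd S At) (fst S At) ≫ (At ◁ x) = lift (snd S At) (fst S At ≫ x) by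
      apply CartesianMonoidalCategory.hom_ext <;> simp, hev] at h
    rw [show x ▷ At = lift (fst S At ≫ x) (snd S At) by
      apply CartesianMonoidalCategory.hom_ext <;> simp, h]
    exact map_zero _
  refine ⟨(hev _ _).trans ((hf _).1 _), fun {Ω} _ _ t ht i => ?_, htriv⟩
  let B' := geoA t At
  letI : GrpObj B' := Functor.grpObjObj
  haveI : IsProper B'.hom := MorphismProperty.pullback_snd (P := @IsProper) _ _ inferInstance
  haveI : GeometricallyIntegral B'.hom := MorphismProperty.pullback_snd (P := @GeometricallyIntegral) _ _ inferInstance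
  have hM := H11Ample.isInvertible_pullback (geoIn (A := At) t) hP'
  refine H25Pic0.subsingleton_HH (A := B') _ hM
    (H25Hat.additive_geo P' hP' (fun {S} a => (hev _ a).trans ((hf S).2.1 a))
      (fun {S} b => (hev b _).trans ((hf S).1 b)) t) (fun h0 => ?_) i
  have h1 : geoPt t = 1 := htriv (geoPt t) ((pullP_pc _ P' hP' hM).symm.trans h0)
  refine ht (IsLocalRing.closedPoint Ω) ?_
  have h2 : t = (geoT t).hom ≫ (η[A] : 𝟙_ _ ⟶ A).left := (congrArg CommaMorphism.left h1).trans (one_left (geoT t))
  rw [h2, Scheme.Hom.comp_apply]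
  exact congrArg _ (Subsingleton.elim (α := PrimeSpectrum k) _ _)

end Groth.Agent.H25FM
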