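import Groth.Agent.H25FM.AV
import Groth.Agent.H25FM.Kernel
import Groth.Agent.H25FM.Swap
import Groth.Agent.H25FM.ProjT
import Groth.Agent.H25Poinc.Global
import Groth.Agent.H25Dual.DegLam

/-!
# Squares and kernels for the Fourier–Mukai inversion
-/

set_option autoImplicit false
set_option linter.style.haveILetI false
set_option linter.unusedSectionVars false
set_option backward.isDefEq.respectTransparency false
set_option synthInstance.maxHeartbeats 400000
set_option maxHeartbeats 1600000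

universe u

open CategoryTheory CategoryTheory.Limits MonoidalCategory CartesianMonoidalCategory MonObj AlgebraicGeometry
open Groth.Agent Groth.Agent.H25AbCube Groth.Agent.H25Dual Groth.Agent.H25Poinc
open Groth.Agent.H16Derived Groth.Agent.H16Derived.KFlat Groth.Agent.H16Derived.KFlat.Stalk

noncomputable section

attribute [local instance] HasDerivedCategory.standard

namespace Groth.Agent.H25FM

variable {k : Type u} [Field k] {A At : Over (Spec (CommRingCat.of k))} [GrpObj A] [IsProper A.hom]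
  [GeometricallyIntegral A.hom]

/-- The unit is a closed immersion. -/
theorem isClosedImmersion_unit : IsClosedImmersion (η[A] : 𝟙_ _ ⟶ A).left := by
  haveI : IsClosedImmersion ((η[A] : 𝟙_ _ ⟶ A).left ≫ A.hom) := by
    rw [Over.w (η[A] : 𝟙_ _ ⟶ A)]
    exact inferInstanceAs (IsClosedImmersion (𝟙 (Spec (CommRingCat.of k))))
  exact IsClosedImmersion.of_comp (η[A] : 𝟙_ _ ⟶ A).left A.hom

/-- The antidiagonal is the fibre of the group law over the origin. -/
theorem isPullback_antidiag :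
    IsPullback (lift (𝟙 A) (𝟙 A)⁻¹).left A.hom μ[A].left (η[A] : 𝟙_ _ ⟶ A).left := by
  haveI : IsIso ((𝟙 A)⁻¹ : A ⟶ A) := by
    have hinv : ((𝟙 A)⁻¹ : A ⟶ A) ≫ (𝟙 A)⁻¹ = 𝟙 A := by
      rw [GrpObj.comp_inv, Category.comp_id, _root_.inv_inv]
    exact ⟨(𝟙 A)⁻¹, hinv, hinv⟩
  haveI : IsIso ((𝟙 A)⁻¹ : A ⟶ A).left := inferInstanceAs (IsIso ((Over.forget _).map ((𝟙 A)⁻¹ : A ⟶ A)))
  have h0 : IsPullback ((lift (𝟙 A) (𝟙 A)⁻¹).left ≫ (snd A A).left) A.hom A.hom
      ((η[A] : 𝟙_ _ ⟶ A).left ≫ A.hom) := by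
    rw [← Over.comp_left, lift_snd]
    haveI : IsIso ((η[A] : 𝟙_ _ ⟶ A).left ≫ A.hom) := by
      rw [Over.w (η[A] : 𝟙_ _ ⟶ A)]; exact inferInstanceAs (IsIso (𝟙 (Spec (CommRingCat.of k))))
    refine IsPullback.of_horiz_isIso ⟨?_⟩
    rw [Over.w (η[A] : 𝟙_ _ ⟶ A), Over.w]
    exact (Category.comp_id _).symm
  refine IsPullback.of_right h0 ?_ (isPullback_mul (A := A)).flip
  have h1 : lift (𝟙 A) (𝟙 A)⁻¹ ≫ μ[A] = 1 :=
    (show _ = 𝟙 A * (𝟙 A)⁻¹ from rfl).trans (mul_inv_cancel _)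
  rw [← Over.comp_left, h1]
  exact one_left A

/-- The square of the addition of the outer factors of `A × Aᵗ × A`. -/
theorem isPullback_outer (A At : Over (Spec (CommRingCat.of k))) [GrpObj A] :
    IsPullback (lift (fst A (At ⊗ A) * (snd A (At ⊗ A) ≫ snd At A)) (snd A (At ⊗ A) ≫ fst At A)).left
      (lift (fst A (At ⊗ A)) (snd A (At ⊗ A) ≫ snd At A)).left (fst A At).left μ[A].left := by
  let Z := A ⊗ (At ⊗ A)
  let e : Z ≅ (A ⊗ A) ⊗ At :=
    { hom := lift (lift (fst _ _) (snd _ _ ≫ snd _ _)) (snd _ _ ≫ fst _ _)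
      inv := lift (fst _ _ ≫ fst _ _) (lift (snd _ _) (fst _ _ ≫ snd _ _))
      hom_inv_id := by
        apply CartesianMonoidalCategory.hom_ext
        · simp [Z]
        · apply CartesianMonoidalCategory.hom_ext <;> simp [Z]
      inv_hom_id := by
        apply CartesianMonoidalCategory.hom_ext
        · apply CartesianMonoidalCategory.hom_ext <;> simp [Z]
        · simp [Z] }
  haveI : IsIso e.hom.left := ((Over.forget _).mapIso e).isIso_hom
  have hν : e.hom ≫ (μ[A] ▷ At) =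
      lift (fst A (At ⊗ A) * (snd A (At ⊗ A) ≫ snd At A)) (snd A (At ⊗ A) ≫ fst At A) := by
    apply CartesianMonoidalCategory.hom_ext
    · rw [Category.assoc, whiskerRight_fst, lift_fst_assoc, lift_fst]
      exact (show _ = _ * _ from rfl)
    · rw [Category.assoc, whiskerRight_snd, lift_snd, lift_snd]
  refine (isPullback_whiskerRight μ[A] At).flip.of_iso' (asIso e.hom.left) (Iso.refl _) (Iso.refl _) (Iso.refl _)
    ?_ ?_ ?_ ?_
  · simp [← Over.comp_left, hν]
  · rw [asIso_hom, Iso.refl_hom, Category.comp_id, ← Over.comp_left]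
    exact congrArg Over.Hom.left (lift_fst _ _)
  all_goals simp

variable [GrpObj At] [IsProper At.hom] [GeometricallyIntegral At.hom]
  (P : (A ⊗ At).left.Modules) (hP : PicF.IsInvertible P) (P' : (At ⊗ A).left.Modules) (hP' : PicF.IsInvertible P')
  (h' : pc (X := (At ⊗ A).left) P' hP' = ev (pc (X := (A ⊗ At).left) P hP) (lift (snd At A) (fst At A)))
  (hU : Universal At A P' hP') (g : ℕ) (hgt : topologicalKrullDim At.left = g) (hg : topologicalKrullDim A.left = g)

include h' hU hgt hg in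
/-- The direct image to `A` of a class universal over `A` is a skyscraper. -/
theorem nonempty_rpush_fst_poincare
    [DCoh.HasRpush (fst A At).left] [DCoh.HasRpush (η[A] : 𝟙_ _ ⟶ A).left] :
    Nonempty ((DCoh.Rpush (fst A At).left).obj (DCoh.inD _ P) ≅
      (shiftFunctor (DCoh.D A.left) (-(g : ℤ))).obj ((DCoh.Rpush (η[A] : 𝟙_ _ ⟶ A).left).obj
        (DCoh.inD _ (Coh.structureModule (𝟙_ (Over (Spec (CommRingCat.of k)))).left)))) := by
  let σ : A ⊗ At ⟶ At ⊗ A := lift (snd A At) (fst A At)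
  let τ : At ⊗ A ⟶ A ⊗ At := lift (snd At A) (fst At A)
  let q' := (snd At A).left
  let p := (fst A At).left
  let e := (η[A] : 𝟙_ _ ⟶ A).left
  haveI := H10Coh.enoughInjMod (At ⊗ A).left
  haveI := H10Coh.enoughInjMod (𝟙_ (Over (Spec (CommRingCat.of k)))).left
  obtain ⟨-, -, hz, ⟨eg⟩⟩ := global_factsU P' hP' hU g hgt hg le_rfl
  haveI : DCoh.HasRpush q' := GammaAcyclic.hasRpush _
  haveI : DCoh.HasLpull σ.left := hasLpull _
  haveI : DCoh.HasLpull (𝟙 A.left) := hasLpull _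
  haveI : IsClosedImmersion e := isClosedImmersion_unit
  obtain ⟨r1⟩ := nonempty_rpush_shift q' P' g hz eg
  haveI : (Coh.structureModule (𝟙_ (Over (Spec (CommRingCat.of k)))).left).IsQuasicoherent :=
    (H11Ample.isCoh_of_isInvertible H11Ample.isInvertible_structureModule).1
  obtain ⟨r2⟩ := nonempty_rpush_affine e (Coh.structureModule (𝟙_ (Over (Spec (CommRingCat.of k)))).left)
  haveI : IsIso σ.left := by
    refine ⟨τ.left, ?_, ?_⟩ <;> rw [← Over.comp_left, ← Over.id_left] <;> congr 1 <;>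
      apply CartesianMonoidalCategory.hom_ext <;> simp [σ, τ]
  have hsq : IsPullback σ.left p q' (𝟙 A.left) := IsPullback.of_horiz_isIso ⟨by
    rw [Category.comp_id, ← Over.comp_left]
    exact congrArg Over.Hom.left (lift_snd _ _)⟩
  haveI : Flat q' := inferInstanceAs (Flat (pullback.snd At.hom A.hom))
  haveI : QuasiCompact q' := inferInstanceAs (QuasiCompact (pullback.snd At.hom A.hom))
  haveI : QuasiSeparated q' := inferInstanceAs (QuasiSeparated (pullback.snd At.hom A.hom))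
  have hPD : DCoh.IsQCohD (DCoh.inD _ P') := isQCohD_inD (H11Ample.isCoh_of_isInvertible hP').1
  obtain ⟨r3⟩ := nonempty_baseChange (Functor.fromPUnit.{0} (DCoh.inD _ P')) (fun _ => hPD) hsq
    (BaseChange.ti_of_flat q' (𝟙 A.left))
  obtain ⟨r4⟩ := nonempty_lpull_id A.left
  obtain ⟨r5⟩ := nonempty_lpull_inD σ.left (M := P') (isFlat_invertible hP')
  obtain ⟨r6⟩ : Nonempty ((Scheme.Modules.pullback σ.left).obj P' ≅ P) := by
    refine (pc_eq_iff (H11Ample.isInvertible_pullback _ hP') hP).1 ?_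
    rw [pullP_pc σ.left P' hP', h']
    show ev (ev _ τ) σ = _
    rw [ev_comp, show σ ≫ τ = 𝟙 _ by apply CartesianMonoidalCategory.hom_ext <;> simp [σ, τ], ev_id]
  exact ⟨(DCoh.Rpush p).mapIso ((DerivedCategory.singleFunctor (A ⊗ At).left.Modules 0).mapIso r6.symm ≪≫ r5.symm) ≪≫
    (r3.app ⟨⟨⟩⟩).symm ≪≫ r4.app _ ≪≫ r1 ≪≫ (shiftFunctor _ _).mapIso r2.symm⟩

include h' hU hgt hg in
/-- The kernel of the composite is the antidiagonal, moved `g` places. -/
theorem nonempty_kernel [Flat A.hom]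
    [DCoh.HasRpush (lift (fst A (At ⊗ A)) (snd A (At ⊗ A) ≫ snd At A)).left]
    [DCoh.HasRpush (lift (𝟙 A) (𝟙 A)⁻¹).left] :
    Nonempty ((DCoh.Rpush (lift (fst A (At ⊗ A)) (snd A (At ⊗ A) ≫ snd At A)).left).obj (DCoh.inD _
        ((Scheme.Modules.pullback
          (lift (fst A (At ⊗ A) * (snd A (At ⊗ A) ≫ snd At A)) (snd A (At ⊗ A) ≫ fst At A)).left).obj P)) ≅
      (DCoh.Rpush (lift (𝟙 A) (𝟙 A)⁻¹).left).obj
        ((shiftFunctor (DCoh.D A.left) (-(g : ℤ))).obj (DCoh.inD A.left (Coh.structureModule A.left)))) := by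
  let n : ℤ := -(g : ℤ)
  let ν := (lift (fst A (At ⊗ A) * (snd A (At ⊗ A) ≫ snd At A)) (snd A (At ⊗ A) ≫ fst At A)).left
  let w := (lift (fst A (At ⊗ A)) (snd A (At ⊗ A) ≫ snd At A)).left
  let p := (fst A At).left
  let e := (η[A] : 𝟙_ _ ⟶ A).left
  let m := μ[A].left
  let d := (lift (𝟙 A) (𝟙 A)⁻¹).left
  haveI : DCoh.HasRpush p := GammaAcyclic.hasRpush _
  haveI : DCoh.HasRpush e := GammaAcyclic.hasRpush _
  haveI : DCoh.HasLpull ν := hasLpull _
  haveI : DCoh.HasLpull m := hasLpull _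
  let a : A.left ⟶ (𝟙_ (Over (Spec (CommRingCat.of k)))).left := A.hom
  have hsq : IsPullback a d e m := (isPullback_antidiag (A := A)).flip
  haveI : DCoh.HasLpull a := hasLpull _
  haveI : Flat p := inferInstanceAs (Flat (pullback.fst A.hom At.hom))
  haveI : QuasiCompact p := inferInstanceAs (QuasiCompact (pullback.fst A.hom At.hom))
  haveI : QuasiSeparated p := inferInstanceAs (QuasiSeparated (pullback.fst A.hom At.hom))
  haveI : Flat m := MorphismProperty.of_isPullback (P := @Flat) (isPullback_mul (A := A)).flip ‹Flat A.hom›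
  haveI : IsClosedImmersion e := isClosedImmersion_unit
  let pt := (𝟙_ (Over (Spec (CommRingCat.of k)))).left
  let O₀ := Coh.structureModule pt
  have hOD : DCoh.IsQCohD ((shiftFunctor (DCoh.D pt) n).obj (DCoh.inD pt O₀)) :=
    QCohD.HomVanish.isQCohD_shift (isQCohD_inD (H11Ample.isCoh_of_isInvertible H11Ample.isInvertible_structureModule).1) n
  obtain ⟨r1⟩ := nonempty_rpush_fst_poincare P hP P' hP' h' hU g hgt hg
  obtain ⟨r2⟩ := nonempty_lpull_inD ν (M := P) (isFlat_invertible hP)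
  obtain ⟨r3⟩ := nonempty_baseChange (Functor.fromPUnit.{0} (DCoh.inD _ P))
    (fun _ => isQCohD_inD (H11Ample.isCoh_of_isInvertible hP).1) (isPullback_outer A At)
    (BaseChange.ti_of_flat p m)
  obtain ⟨r4⟩ := nonempty_baseChange (Functor.fromPUnit.{0} ((shiftFunctor (DCoh.D pt) n).obj (DCoh.inD pt O₀)))
    (fun _ => hOD) hsq (BaseChange.ti_of_flat' e m)
  obtain ⟨r5⟩ := nonempty_lpull_inD a (M := O₀) (isFlat_structure pt)
  letI := rpushCommShift e
  letI := lpullCommShift a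
  exact ⟨(DCoh.Rpush w).mapIso r2.symm ≪≫ (r3.app ⟨⟨⟩⟩).symm ≪≫ (DCoh.Lpull m).mapIso
      (r1 ≪≫ (((DCoh.Rpush e).commShiftIso n).app (DCoh.inD pt O₀)).symm) ≪≫ r4.app ⟨⟨⟩⟩ ≪≫
    (DCoh.Rpush d).mapIso (((DCoh.Lpull a).commShiftIso n).app (DCoh.inD pt O₀) ≪≫
      (shiftFunctor (DCoh.D A.left) n).mapIso (r5 ≪≫
        (DerivedCategory.singleFunctor A.left.Modules 0).mapIso (PicLoc.pullbackStructureIso a)))⟩

/-- The direct image along the inversion is the inverse image. -/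
theorem nonempty_rpush_inv [DCoh.HasLpull ((𝟙 A)⁻¹ : A ⟶ A).left] [DCoh.HasRpush ((𝟙 A)⁻¹ : A ⟶ A).left] :
    Nonempty (DCoh.Rpush ((𝟙 A)⁻¹ : A ⟶ A).left ≅ DCoh.Lpull ((𝟙 A)⁻¹ : A ⟶ A).left) := by
  let i := ((𝟙 A)⁻¹ : A ⟶ A).left
  haveI : DCoh.HasLpull (𝟙 A.left) := hasLpull _
  have hi : i ≫ i = 𝟙 A.left := by
    rw [← Over.comp_left, GrpObj.comp_inv, Category.comp_id, _root_.inv_inv, Over.id_left]
  obtain ⟨a⟩ := nonempty_lpull_comp i i (𝟙 A.left) hi
  obtain ⟨b⟩ := nonempty_lpull_id A.left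
  exact ⟨(lpullRpushAdj i).rightAdjointUniq
    (CategoryTheory.Equivalence.mk (DCoh.Lpull i) (DCoh.Lpull i) (a ≪≫ b).symm (a ≪≫ b)).toAdjunction⟩

end Groth.Agent.H25FM
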