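import Groth.Agent.LeadBC.GenBC.Top
import Groth.Agent.H25Hat.Omega

/-!
# The dimension of cohomology through the direct image to the field
-/

set_option autoImplicit false
set_option linter.style.haveILetI false
set_option linter.unusedSectionVars false
set_option backward.isDefEq.respectTransparency false
set_option maxRecDepth 4000
set_option maxHeartbeats 1000000

universe u

open CategoryTheory CategoryTheory.Limits AlgebraicGeometry
open scoped TensorProduct
open Groth.Agent Groth.Agent.LeadBC Groth.Agent.LeadBC.GenBC Groth.Agent.H10Coh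

noncomputable section

attribute [local instance 10000] hasSheafifyAb hasWeakSheafifyAb hasExtAb enoughInjAb

namespace Groth.Agent.H25FM

variable {k : Type u} [Field k] {X : Scheme.{u}} [X.Over (Spec (CommRingCat.of k))]

/-- The dimension of cohomology is the rank of the sections of the higher direct image. -/
theorem finrank_HH_eq_rpush [IsProper (X ↘ Spec (CommRingCat.of k))] [HasInjectiveResolutions X.Modules]
    (F : X.Modules) [F.IsQuasicoherent] (p : ℕ) :
    Module.finrank k (Coh.HH X F p) = Module.finrank Γ(Spec (CommRingCat.of k), ⊤)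
      Γ((Coh.Rpush (X ↘ Spec (CommRingCat.of k)) p).obj F, ⊤) := by
  let f := X ↘ Spec (CommRingCat.of k)
  let B := Γ(Spec (CommRingCat.of k), ⊤)
  let hV := isAffineOpen_top (Spec (CommRingCat.of k))
  letI := preOver f hV
  letI : Algebra k B := (Scheme.ΓSpecIso (CommRingCat.of k)).inv.hom.toAlgebra
  haveI : Nontrivial B := (Scheme.ΓSpecIso (CommRingCat.of k)).commRingCatIsoToRingEquiv.toEquiv.nontrivial
  haveI : CompactSpace X := QuasiCompact.compactSpace_of_compactSpace f
  haveI : QuasiSeparatedSpace X := quasiSeparatedSpace_of_quasiSeparated f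
  haveI : Module.Flat k B := @Module.Flat.of_free k B _ _ _ (Module.Free.of_divisionRing k B)
  have hsq : IsPullback (f ⁻¹ᵁ ⊤).ι ((f ⁻¹ᵁ ⊤).toScheme ↘ Spec (CommRingCat.of B)) f
      (Spec.map (CommRingCat.ofHom (algebraMap k B))) := by
    have h := isPullback_preOver f hV
    rw [IsAffineOpen.fromSpec_top, Scheme.isoSpec_Spec_inv] at h
    exact h
  obtain ⟨e₁⟩ := H10Coh.FBC.nonempty_flat_base_change (A := k) (B := B) (q := (f ⁻¹ᵁ ⊤).ι) F hsq p
  obtain ⟨e₂, he₂⟩ := exists_rpushEquiv f hV F p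
  let e₃ : Coh.HH (f ⁻¹ᵁ ⊤).toScheme ((Scheme.Modules.pullback (f ⁻¹ᵁ ⊤).ι).obj F) p ≃ₗ[B]
      Coh.HH (f ⁻¹ᵁ ⊤).toScheme (F.restrict (f ⁻¹ᵁ ⊤).ι) p :=
    ((HMod B p).mapIso ((Scheme.Modules.restrictFunctorIsoPullback (f ⁻¹ᵁ ⊤).ι).app F).symm).toLinearEquiv
  let e : B ⊗[k] Coh.HH X F p ≃ₗ[B] Γ((Coh.Rpush f p).obj F, ⊤) := e₁ ≪≫ₗ e₃ ≪≫ₗ { e₂ with map_smul' := he₂ }
  rw [← e.finrank_eq]
  exact Module.finrank_baseChange.symm

/-- Isomorphic modules have sections of the same rank. -/
theorem finrank_sections_congr {M N : X.Modules} (e : M ≅ N) :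
    Module.finrank Γ(X, ⊤) Γ(M, ⊤) = Module.finrank Γ(X, ⊤) Γ(N, ⊤) :=
  LinearEquiv.finrank_eq
    { toFun := fun x => e.hom.app ⊤ x
      invFun := fun y => e.inv.app ⊤ y
      left_inv := fun x => congr($(congr(Scheme.Modules.Hom.app $(e.hom_inv_id) ⊤)) x)
      right_inv := fun y => congr($(congr(Scheme.Modules.Hom.app $(e.inv_hom_id) ⊤)) y)
      map_add' := fun x y => map_add _ _ _
      map_smul' := fun a x => Scheme.Modules.Hom.app_smul e.hom a x }

/-- The sections of a free module over a field. -/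
theorem finrank_sections_freeMod (k : Type u) [Field k] (n : ℕ) :
    Module.finrank Γ(Spec (CommRingCat.of k), ⊤) Γ(FlatMod.freeMod (Spec (CommRingCat.of k)) n, ⊤) = n := by
  let S := Spec (CommRingCat.of k)
  letI : S.Over (Spec (CommRingCat.of k)) := ⟨𝟙 _⟩
  haveI : IsProper (S ↘ Spec (CommRingCat.of k)) := inferInstanceAs (IsProper (𝟙 _))
  haveI := enoughInjMod S
  let B := Γ(S, ⊤)
  haveI : Nontrivial B := (Scheme.ΓSpecIso (CommRingCat.of k)).commRingCatIsoToRingEquiv.toEquiv.nontrivial
  have key : ∀ (M : S.Modules) [M.IsQuasicoherent],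
      Module.finrank k (Coh.HH S M 0) = Module.finrank B Γ(M, ⊤) := fun M _ => by
    rw [finrank_HH_eq_rpush M 0]
    exact finrank_sections_congr ((Scheme.Modules.pushforward (𝟙 S)).rightDerivedZeroIsoSelf.app M ≪≫
      (Scheme.Modules.pushforwardId S).app M)
  haveI : (FlatMod.freeMod S n).IsQuasicoherent :=
    (H16Derived.KFlat.Stalk.isCoh_of_isFinLocFree (H22Alg.KModel.finLocFree_free n)).1
  haveI : (Coh.structureModule S).IsQuasicoherent :=
    (H11Ample.isCoh_of_isInvertible H11Ample.isInvertible_structureModule).1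
  rw [← key, H25Hat.finrank_freeMod, key]
  erw [Module.finrank_self]
  exact Nat.mul_one n

end Groth.Agent.H25FM
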