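import Groth.Agent.H25AbCube.CurveDeg
import Groth.Agent.H22Alg.ExtPowTwist
import Groth.Agent.H22Alg.PB.Push
import Groth.Agent.H22Alg.PB.Local
import Groth.Agent.H22Alg.DetSections
import Groth.Agent.H25Par.CurveLocFree
import Groth.Agent.H25Tors.Generic
import Groth.Agent.H29RR.DetTrivial
import Groth.Agent.H22Alg.GenCurves
import Groth.Agent.H22Alg.NefBundle
import Groth.Agent.H28Bertini.Regular
import Groth.Agent.LeadProper.Supp
import Groth.Agent.H25AbCube.AlgEquiv
import Groth.Agent.H26TF1.Basic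
import Groth.Agent.H28RR.AnyField
import Groth.Agent.H25FM.Swap
import Groth.Agent.H25FM.Calc

/-!
# Finiteness of the support of modules invariant under twists by degree zero classes
-/

set_option autoImplicit false
set_option linter.style.haveILetI false
set_option linter.unusedSectionVars false
set_option backward.isDefEq.respectTransparency false
set_option synthInstance.maxHeartbeats 400000
set_option maxHeartbeats 1000000

universe u

open CategoryTheory CategoryTheory.Limits MonoidalCategory CartesianMonoidalCategory MonObj AlgebraicGeometry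
open Groth.Agent Groth.Agent.H25AbCube Groth.Agent.H25Dual Groth.Agent.H25Poinc

noncomputable section

attribute [local instance] HasDerivedCategory.standard Functor.grpObjObj

namespace Groth.Agent.H25FM.SuppFin

variable {X : Scheme.{u}}

/-- A line bundle fixing a vector bundle of rank `r` by twisting has trivial `r`-th power. -/
theorem nsmul_pc_eq_zero {E M : X.Modules} {r : ℕ} (hE : FlatMod.IsFinLocFreeOfRank r E)
    (hM : PicF.IsInvertible M) (e : CohB1.tensorMod E M ≅ E) : r • pc M hM = 0 := by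
  have hE' : FlatMod.IsFinLocFree E := fun x => let ⟨U, hU⟩ := hE x; ⟨U, r, hU⟩
  have hq := H8Props.FinLocFree.isQCoh_of_isFinLocFree _ hE'
  obtain ⟨D, hD⟩ := H22Alg.ExtPowSheaf.exists_isExtPow r hq
  have hD' := H22Alg.ExtPowHom.finLocFree_of_isExtPow hE' hD
  have h1 : FlatMod.IsFinLocFreeOfRank 1 D := H22Alg.PB.rank_of_rk hD' fun x => by
    rw [H22Alg.KExists.rk_extPow hE' hD, H22Alg.KExists.rk_of_rank hE, Nat.choose_self]
  have hDi : PicF.IsInvertible D := fun x => let ⟨U, hxU, ⟨g⟩⟩ := h1 x; ⟨U, hxU, ⟨g ≪≫ coproductUniqueIso fun _ : Fin 1 => Coh.structureModule (↑U : Scheme.{u})⟩⟩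
  obtain ⟨f⟩ := H22Alg.ExtPowTwist.nonempty_iso hq hM hD (H22Alg.ExtPowSES.isExtPow_of_iso e.symm hD)
  obtain ⟨hp, hpe⟩ := exists_pc_pow hM r
  have h2 := (pc_eq_iff hDi (H11Ample.isInvertible_tensor hDi hp)).2 ⟨f⟩
  rw [pc_tensor hDi hp, hpe] at h2
  exact left_eq_add.1 h2

/-- A line bundle fixing a coherent module with dense support on a smooth curve is torsion. -/
theorem exists_nsmul_pc_eq_zero (k : Type u) [Field k] [IsIntegral X] [IsLocallyNoetherian X]
    [X.Over (Spec (CommRingCat.of k))] [Smooth (X ↘ Spec (CommRingCat.of k))] (hdim : topologicalKrullDim X ≤ 1)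
    {T : X.Modules} (hT : Coh.IsCoh T) (hgen : genericPoint X ∈ CohB1.support T) :
    ∃ r : ℕ, 0 < r ∧ ∀ (M : X.Modules) (hM : PicF.IsInvertible M), Nonempty (CohB1.tensorMod T M ≅ T) →
      r • pc M hM = 0 := by
  obtain ⟨Q, q, hq, hQc, htf, hker⟩ := H25Par.notMem_support_torsion hT
  obtain ⟨r, hr⟩ := H25Par.exists_rank k hdim hQc htf
  let S := ShortComplex.mk (kernel.ι q) q (kernel.condition q)
  haveI := hq
  have hS : S.ShortExact := { exact := S.exact_of_f_is_kernel (kernelIsKernel q) }
  have hQgen : genericPoint X ∈ CohB1.support Q :=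
    (LeadDev.support_subset_of_shortExact hS hgen).resolve_left hker
  refine ⟨r, Nat.pos_of_ne_zero fun h0 => ?_, fun M hM ⟨e⟩ => ?_⟩
  · obtain ⟨hf, hfin, hrk⟩ := H25Par.finrank_stalk hr (genericPoint X)
    haveI := hf
    haveI := hfin
    exact hQgen (Module.finrank_zero_iff.1 (hrk.trans h0))
  · have hr' := H22Alg.DetSections.rank_tensor hr hM
    have hf' : FlatMod.IsFinLocFree (CohB1.tensorMod Q M) := fun y => let ⟨U, hU⟩ := hr' y; ⟨U, r, hU⟩
    have hqM : Epi ((DCoh.tensorRightMod M).map q) := inferInstance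
    let g : T ⟶ CohB1.tensorMod Q M := e.inv ≫ (DCoh.tensorRightMod M).map q
    have hg : kernel.ι q ≫ g = 0 := by
      refine H26TF1.eq_zero_of_generic (H29RR.isCoh_of_rank hr')
        (H25Par.isTorsionFree_of_locFree hf') _ fun y0 hy0 a => ?_
      rw [genericPoints_eq_singleton, Set.mem_singleton_iff] at hy0
      subst hy0
      haveI : Subsingleton ((kernel q).presheaf.stalk (genericPoint X)) := not_not.1 hker
      rw [Subsingleton.elim a 0, map_zero]
    let h := Abelian.epiDesc q g hg
    haveI : Epi g := epi_comp _ _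
    haveI : Epi h := epi_of_epi_fac (Abelian.comp_epiDesc q g hg)
    haveI := H28RR.AnyField.isIso_of_epi_rank hr hr' h
    exact nsmul_pc_eq_zero hr hM (asIso h).symm

/-- An infinite support contains the image of a smooth proper curve. -/
theorem exists_curve_map {k : Type u} [Field k] [IsAlgClosed k] (A : Over (Spec (CommRingCat.of k))) [IsProper A.hom]
    {H : A.left.Modules} (hH : Coh.IsCoh H) (hinf : (CohB1.support H).Infinite) :
    ∃ (N : Over (Spec (CommRingCat.of k))) (_ : IsIntegral N.left) (_ : IsProper N.hom) (_ : Smooth N.hom)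
      (f : N ⟶ A), topologicalKrullDim N.left = 1 ∧
      genericPoint N.left ∈ CohB1.support ((Scheme.Modules.pullback f.left).obj H) ∧
      ¬ IsClosed ({f.left (genericPoint N.left)} : Set A.left) := by
  letI : A.left.Over (Spec (CommRingCat.of k)) := ⟨A.hom⟩
  haveI : IsProper (A.left ↘ Spec (CommRingCat.of k)) := inferInstanceAs (IsProper A.hom)
  haveI := H28Int.isNoetherian k (X := A.left)
  obtain ⟨w, hwS, hwd⟩ := H22Alg.GenCurves.exists_curve (LeadProper.isClosed_support H hH.1 hH.2) hinf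
  have hwc : ¬ IsClosed ({w} : Set A.left) := fun hc => by
    rw [hc.closure_eq] at hwd
    haveI : Nonempty ({w} : Set A.left) := ⟨⟨w, rfl⟩⟩
    have h0 : topologicalKrullDim ({w} : Set A.left) ≤ 0 := topologicalKrullDim_zero_of_discreteTopology _
    rw [hwd] at h0
    exact absurd h0 (not_le.2 zero_lt_one)
  let J := Scheme.IdealSheafData.vanishingIdeal (H22Alg.DevLength.cl w)
  let C := J.subscheme
  haveI : IsIntegral C := H22Alg.isIntegral_vanishingIdeal_closure w
  letI : C.Over (Spec (CommRingCat.of k)) := ⟨J.subschemeι ≫ A.hom⟩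
  haveI : IsProper (C ↘ Spec (CommRingCat.of k)) := inferInstanceAs (IsProper (J.subschemeι ≫ _))
  have hCd : topologicalKrullDim C = 1 := by
    rw [← hwd, J.subschemeι.isClosedEmbedding.isEmbedding.toHomeomorph.isHomeomorph.topologicalKrullDim_eq,
      H17.range_vanishingIdeal_subschemeι]
    rfl
  haveI : Surjective (𝟙 C) := inferInstance
  obtain ⟨N, hN, ν, hνp, hNd, hreg, hgen, -⟩ :=
    H22Alg.NefBundle.exists_regular_curve_over k hCd (𝟙 C) (Category.id_comp _)
  haveI := hN
  haveI := hνp
  let f : Over.mk (ν ≫ J.subschemeι ≫ A.hom) ⟶ A := Over.homMk (ν ≫ J.subschemeι) (Category.assoc _ _ _)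
  haveI : IsProper (ν ≫ J.subschemeι ≫ A.hom) := hνp
  have hgw : f.left (genericPoint N) = w := by
    rw [Category.comp_id] at hgen
    show (ν ≫ J.subschemeι) (genericPoint N) = w
    rw [Scheme.Hom.comp_apply, hgen]
    have h1 : closure ({J.subschemeι (genericPoint C)} : Set A.left) = closure {w} := by
      rw [← H22Alg.IntPullback.closure_range, H17.range_vanishingIdeal_subschemeι]
      exact closure_closure
    exact (Specializes.antisymm (specializes_iff_mem_closure.2 (h1.ge (subset_closure rfl)))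
      (specializes_iff_mem_closure.2 (h1.le (subset_closure rfl)))).eq
  refine ⟨Over.mk (ν ≫ J.subschemeι ≫ A.hom), hN, hνp,
    H28Bertini.smooth_of_regular (ν ≫ J.subschemeι ≫ A.hom) hreg, f, hNd, ?_, hgw ▸ hwc⟩
  rw [LeadProper.support_pullback H hH.1 hH.2 f.left]
  show f.left (genericPoint N) ∈ CohB1.support H
  rw [hgw]
  exact hwS (subset_closure rfl)

variable {k : Type u} [Field k] [IsAlgClosed k] {A At : Over (Spec (CommRingCat.of k))} [GrpObj A] [IsProper A.hom]
  [GeometricallyIntegral A.hom] [GrpObj At] [IsProper At.hom] [GeometricallyIntegral At.hom]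

/-- A coherent module fixed by all twists by classes of degree zero has finite support. -/
theorem support_finite {φ : ∀ T : Over (Spec (CommRingCat.of k)), PicF.Cl (PicF.XT A.hom T) → (T ⟶ At)}
    (hφ : AbDual.IsDualAV Scheme.fppfPrecoverage A At φ) (P : (A ⊗ At).left.Modules) (hP : PicF.IsInvertible P)
    (hξ : AbDual.IsPoincareCl A At φ (PicF.cl P)) {H : A.left.Modules} (hH : Coh.IsCoh H)
    (hinv : ∀ x : 𝟙_ (Over (Spec (CommRingCat.of k))) ⟶ At, Nonempty (CohB1.tensorMod H
      ((Scheme.Modules.pullback (lift (𝟙 A) (toUnit A ≫ x)).left).obj P) ≅ H)) :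
    (CohB1.support H).Finite := by
  by_contra hinf
  haveI : IsCommMonObj A := isCommMonObj_of_av
  haveI : IsCommMonObj At := isCommMonObj_of_av
  haveI : IsIntegral At.left := GeometricallyIntegral.isIntegral_of_subsingleton At.hom
  obtain ⟨N, hNi, hNp, hNs, f, hNd, hgen, hnc⟩ := exists_curve_map A hH hinf
  haveI := hNi
  haveI := hNp
  haveI := hNs
  haveI : GeometricallyIntegral N.hom := geometricallyIntegral_of_isIntegral N
  letI : N.left.Over (Spec (CommRingCat.of k)) := ⟨N.hom⟩
  haveI : Smooth (N.left ↘ Spec (CommRingCat.of k)) := hNs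
  haveI : IsLocallyNoetherian N.left := LocallyOfFiniteType.isLocallyNoetherian N.hom
  obtain ⟨r, hr, hrM⟩ := exists_nsmul_pc_eq_zero k hNd.le
    (T := (Scheme.Modules.pullback f.left).obj H) ⟨H29Fitt.isQCoh_pullback f.left H hH.1,
      H29Fitt.isFT_pullback f.left H hH.1 hH.2⟩ hgen
  set u : PC (A ⊗ At).left := pc P hP
  have hb := (poincare_facts hφ P hP hξ (T := N)).2.2
  have hv : ∀ x : 𝟙_ (Over (Spec (CommRingCat.of k))) ⟶ At, r • ev u (lift f (toUnit N ≫ x)) = 0 := fun x => by
    obtain ⟨e⟩ := hinv x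
    have hM := H11Ample.isInvertible_pullback (lift (𝟙 A) (toUnit A ≫ x)).left hP
    have hM' := H11Ample.isInvertible_pullback f.left hM
    have h := hrM _ hM' ⟨(H25Theta.pT f.left H _).symm ≪≫ (Scheme.Modules.pullback f.left).mapIso e⟩
    rw [pullP_pc f.left _ hM hM', pullP_pc _ P hP hM] at h
    have h' : r • ev (ev u (lift (𝟙 A) (toUnit A ≫ x))) f = 0 := h
    rwa [ev_comp, comp_lift, Category.comp_id, ← Category.assoc, comp_toUnit] at h'
  have hv0 : ∀ x : 𝟙_ (Over (Spec (CommRingCat.of k))) ⟶ At, ev u (lift f (toUnit N ≫ x)) = 0 := fun x => by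
    obtain ⟨y, hy⟩ := H25AbCube.exists_pow_eq (A := At) hr x
    let V : (N ⟶ At) →* Multiplicative (PC N.left) :=
      MonoidHom.mk' (fun b => Multiplicative.ofAdd (ev u (lift f b))) fun b b' =>
        congrArg Multiplicative.ofAdd (hb.2 f b b')
    have h1 : toUnit N ≫ x = (toUnit N ≫ (y : 𝟙_ _ ⟶ At)) ^ r := by
      rw [← hy]
      exact MonObj.comp_pow _ _ _
    have h2 := congrArg Multiplicative.toAdd (map_pow V (toUnit N ≫ (y : 𝟙_ _ ⟶ At)) r)
    rw [← h1] at h2
    exact h2.trans (hv y)
  obtain ⟨a⟩ := exists_rat_point N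
  let f' : N ⟶ A := f * (toUnit N ≫ (a ≫ f)⁻¹)
  have ha : a ≫ f' = 1 := by
    rw [show f' = f * (toUnit N ≫ (a ≫ f)⁻¹) from rfl, MonObj.comp_mul, ← Category.assoc a (toUnit N),
      toUnit_unique (a ≫ toUnit N) (𝟙 _), Category.id_comp, mul_inv_cancel]
  have h0 : ev u (f' ▷ At) = 0 := by
    refine eq_zero_of_slices N At _ a (fun t => ?_) ?_
    · rw [ev_comp, show lift (𝟙 N) (toUnit N ≫ t) ≫ (f' ▷ At) = lift f' (toUnit N ≫ t) by
          apply CartesianMonoidalCategory.hom_ext <;> simp, hb.1, hv0 t, zero_add,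
        show lift (toUnit N ≫ (a ≫ f)⁻¹) (toUnit N ≫ t) = toUnit N ≫ lift (a ≫ f)⁻¹ t from (comp_lift _ _ _).symm]
      exact ev_toUnit u _
    · rw [ev_comp, show lift (toUnit At ≫ a) (𝟙 At) ≫ (f' ▷ At) = lift (toUnit At ≫ a ≫ f') (𝟙 At) by
          apply CartesianMonoidalCategory.hom_ext <;> simp, ha, MonObj.comp_one]
      exact (poincare_facts hφ P hP hξ (T := At)).1 _
  have h1 := H25FM.triv_swap hφ P hP hξ f' h0
  have hf : f = toUnit N ≫ (a ≫ f) := by
    have := congrArg (· * (toUnit N ≫ (a ≫ f))) h1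
    simp only [f', _root_.one_mul] at this
    rwa [_root_.mul_assoc, ← MonObj.comp_mul, inv_mul_cancel, MonObj.comp_one, _root_.mul_one] at this
  refine hnc ?_
  generalize a ≫ f = c at hf
  haveI : Subsingleton (𝟙_ (Over (Spec (CommRingCat.of k)))).left :=
    inferInstanceAs (Subsingleton (PrimeSpectrum k))
  haveI : IsClosedImmersion c.left := isClosedImmersion_of_comp_eq_id _ _ (Over.w c)
  have hrg : Set.range c.left = {f.left (genericPoint N.left)} := by
    have hpt : f.left (genericPoint N.left) = c.left ((toUnit N).left (genericPoint N.left)) := by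
      rw [hf]; rfl
    rw [hpt]
    exact Set.Subset.antisymm (fun z ⟨t, ht⟩ => ht ▸ congrArg c.left (Subsingleton.elim _ _))
      (Set.singleton_subset_iff.2 ⟨_, rfl⟩)
  exact hrg ▸ c.left.isClosedEmbedding.isClosed_range

open Groth.Agent.H16Derived Groth.Agent.H16Derived.KFlat Groth.Agent.H16Derived.KFlat.Stalk in
/-- Cohomology commutes with twisting by an invertible module. -/
theorem nonempty_HD_ltensorMod {Y : Scheme.{u}} {M : Y.Modules} (hM : PicF.IsInvertible M) [DCoh.HasLTensorMod M]
    (G : DCoh.D Y) (i : ℤ) :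
    Nonempty (DCoh.HD ((DCoh.LTensorMod M).obj G) i ≅ CohB1.tensorMod (DCoh.HD G i) M) := by
  have hf := isFlat_invertible hM
  have hex : PreservesFiniteLimits (DCoh.tensorRightMod M) ∧ PreservesFiniteColimits (DCoh.tensorRightMod M) :=
    (Functor.exact_tfae (DCoh.tensorRightMod M)).out 0 3 |>.1 fun S hS =>
      ShortComplex.shortExact_of_iso (S.mapNatIso (tensorRightModIso M).symm) (isFlatObj_of_isFlat hf S hS)
  haveI := hex.1
  haveI := hex.2
  let K := DerivedCategory.Q.objPreimage G
  let c : DerivedCategory.Q.obj K ≅ G := DerivedCategory.Q.objObjPreimageIso G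
  let d : (K.sc i).homology ≅ DCoh.HD G i :=
    ((DerivedCategory.homologyFunctorFactors Y.Modules i).app K).symm ≪≫
      (DerivedCategory.homologyFunctor Y.Modules i).mapIso c
  exact ⟨(DerivedCategory.homologyFunctor Y.Modules i).mapIso
      ((DCoh.LTensorMod M).mapIso c.symm ≪≫ (ltFlatIso hf).app K) ≪≫
    (DerivedCategory.homologyFunctorFactors Y.Modules i).app _ ≪≫
    (K.sc i).mapHomologyIso (DCoh.tensorRightMod M) ≪≫ (DCoh.tensorRightMod M).mapIso d⟩

end Groth.Agent.H25FM.SuppFin
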