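import Groth.Agent.H16Derived.KFlat.TorAmp
import Groth.Agent.H16Derived.KFlat.SheafAssoc
import Groth.Agent.H16Derived.KFlat.PushPull
import Groth.Agent.H3Cyc.TensorFilt
import Groth.Agent.H11Ample.Twist

/-!
# `- ⊗^L M` for a flat module `M`, and its compatibility with `Lf^*`, as isomorphisms of functors
-/

set_option autoImplicit false
set_option linter.style.haveILetI false
set_option linter.unusedSectionVars false
set_option backward.isDefEq.respectTransparency false
set_option maxHeartbeats 1000000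

universe u

open CategoryTheory CategoryTheory.Limits AlgebraicGeometry

attribute [local instance] HasDerivedCategory.standard

noncomputable section

namespace Groth.Agent.H25FM

open Groth.Agent.H16Derived Groth.Agent.H16Derived.KFlat Groth.Agent.H16Derived.KFlat.Stalk

variable {X Y : Scheme.{u}}

/-- A flat module as a complex. -/
abbrev one (M : X.Modules) : CochainComplex X.Modules ℤ :=
  (HomologicalComplex.single X.Modules (ComplexShape.up ℤ) 0).obj M

theorem one_isZero (M : X.Modules) (p : ℤ) (hp : p ≠ 0) : IsZero ((one M).X p) :=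
  HomologicalComplex.isZero_single_obj_X (ComplexShape.up ℤ) 0 M p hp

theorem isFlat_one {M : X.Modules} (hM : FlatMod.IsFlat M) (q : ℤ) : FlatMod.IsFlat ((one M).X q) := by
  by_cases h : q = 0
  · subst h
    let e := HomologicalComplex.singleObjXSelf (ComplexShape.up ℤ) 0 M
    exact isFlat_of_retract e.hom e.inv e.hom_inv_id hM
  · exact isFlat_of_isZero (one_isZero M q h)

theorem kflat_one {M : X.Modules} (hM : FlatMod.IsFlat M) : kflat X (one M) :=
  kflat_of_boundedAbove _ 0 (fun q hq => one_isZero M q (by omega)) (isFlat_one hM)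

theorem lkflat_one {M : X.Modules} (hM : FlatMod.IsFlat M) : lkflat X (one M) :=
  lkflat_of_boundedAbove _ 0 (fun q hq => one_isZero M q (by omega)) (isFlat_one hM)

/-- `K ⊗ M` termwise is `Tot (K ⊗ M[0])`. -/
def tensOneIso (M : X.Modules) (K : CochainComplex X.Modules ℤ) :
    ((DCoh.tensorRightMod M).mapHomologicalComplex (ComplexShape.up ℤ)).obj K ≅
      (tot (DCoh.tensorBi (X := X)) K).obj (one M) :=
  (NatIso.mapHomologicalComplex (tensorRightModIso M ≪≫
      (DCoh.tensorBi (X := X)).flip.mapIso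
        (HomologicalComplex.singleObjXSelf (ComplexShape.up ℤ) 0 M).symm) (ComplexShape.up ℤ)).app K ≪≫
    singleLeftIso (DCoh.tensorBi (X := X)).flip (one M) K (one_isZero M) ≪≫
    totFlipIso K (one M)

/-- `- ⊗ M` preserves acyclic complexes for a flat `M`. -/
theorem acyclic_tensor_flat {M : X.Modules} (hM : FlatMod.IsFlat M) {W : CochainComplex X.Modules ℤ}
    (hW : W.Acyclic) :
    (((DCoh.tensorRightMod M).mapHomologicalComplex (ComplexShape.up ℤ)).obj W).Acyclic :=
  acyclic_of_iso (tensOneIso M W).symm (kflat_one hM W hW)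

/-- All complexes are adapted to `- ⊗ M` for a flat `M`. -/
def flatAdapted {M : X.Modules} (hM : FlatMod.IsFlat M) :
    LeftDerTri.Adapted (DCoh.tensorRightMod M) (⊤ : ObjectProperty (CochainComplex X.Modules ℤ)) where
  R := 𝟭 _
  ψ := 𝟙 _
  mem _ := trivial
  quasiIso Z := inferInstanceAs (QuasiIso (𝟙 Z))
  cone _ _ _ := trivial
  acyclic _ hW _ := acyclic_tensor_flat hM hW

/-- The tautological lift to `⊤`. -/
def toTop (X : Scheme.{u}) : CochainComplex X.Modules ℤ ⥤
    (⊤ : ObjectProperty (CochainComplex X.Modules ℤ)).FullSubcategory :=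
  ObjectProperty.lift _ (𝟭 _) fun _ => trivial

/-- `Q K ⊗^L M = Q (K ⊗ M)` for a flat `M`. -/
def ltFlatIso {M : X.Modules} (hM : FlatMod.IsFlat M) [DCoh.HasLTensorMod M] :
    DerivedCategory.Q ⋙ DCoh.LTensorMod M ≅
      (DCoh.tensorRightMod M).mapHomologicalComplex (ComplexShape.up ℤ) ⋙ DerivedCategory.Q :=
  Functor.isoWhiskerLeft (toTop X)
    (LeftDerTri.derivedIso ((DCoh.tensorModKh M).totalLeftDerivedCounit DerivedCategory.Qh
      (HomotopyCategory.quasiIso X.Modules (ComplexShape.up ℤ))) (flatAdapted hM))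

theorem isFlat_invertible {M : X.Modules} (hM : PicF.IsInvertible M) : FlatMod.IsFlat M :=
  H3Cyc.Filt.isFlat_invertible hM

/-- The tensor of a K-flat complex with a flat module is K-flat. -/
theorem kflat_tensor {M : X.Modules} (hM : FlatMod.IsFlat M) {K : CochainComplex X.Modules ℤ}
    (hK : kflat X K) :
    kflat X (((DCoh.tensorRightMod M).mapHomologicalComplex (ComplexShape.up ℤ)).obj K) :=
  IsKFlat.of_iso (F := DCoh.tensorBi (X := X)) (tensOneIso M K).symm
    ((isKFlat_iff' _).1 (isKFlat_tensorCx ((isKFlat_iff' K).2 hK) ((isKFlat_iff' _).2 (kflat_one hM))))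

/-- `f^* (- ⊗ M) = f^* - ⊗ f^* M` on modules. -/
def pullTensorRightIso (f : X ⟶ Y) (M : Y.Modules) :
    DCoh.tensorRightMod M ⋙ Scheme.Modules.pullback f ≅
      Scheme.Modules.pullback f ⋙ DCoh.tensorRightMod ((Scheme.Modules.pullback f).obj M) :=
  Functor.isoWhiskerRight (tensorRightModIso M) _ ≪≫ pullTensorLIso f M ≪≫
    Functor.isoWhiskerLeft _ (tensorRightModIso _).symm

/-- The same on complexes. -/
def pullTensorCxIso (f : X ⟶ Y) (M : Y.Modules) :
    (DCoh.tensorRightMod M).mapHomologicalComplex (ComplexShape.up ℤ) ⋙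
        (Scheme.Modules.pullback f).mapHomologicalComplex (ComplexShape.up ℤ) ≅
      (Scheme.Modules.pullback f).mapHomologicalComplex (ComplexShape.up ℤ) ⋙
        (DCoh.tensorRightMod ((Scheme.Modules.pullback f).obj M)).mapHomologicalComplex
          (ComplexShape.up ℤ) :=
  NatIso.ofComponents (fun K => HomologicalComplex.Hom.isoOfComponents
      (fun i => (pullTensorRightIso f M).app (K.X i))
      (fun i j _ => ((pullTensorRightIso f M).hom.naturality (K.d i j)).symm))
    (fun {K L} g => HomologicalComplex.hom_ext _ _ fun i =>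
      (pullTensorRightIso f M).hom.naturality (g.f i))

/-- `Lf^*(- ⊗^L M) ≅ Lf^*(-) ⊗^L f^* M` for a flat `M`, as functors. -/
theorem nonempty_lpull_ltensorMod (f : X ⟶ Y) [DCoh.HasLpull f] {M : Y.Modules} (hM : FlatMod.IsFlat M)
    [DCoh.HasLTensorMod M] [DCoh.HasLTensorMod ((Scheme.Modules.pullback f).obj M)] :
    Nonempty (DCoh.LTensorMod M ⋙ DCoh.Lpull f ≅
      DCoh.Lpull f ⋙ DCoh.LTensorMod ((Scheme.Modules.pullback f).obj M)) := by
  have hM' := isFlat_pullback f hM
  let ρ : (kflat Y).FullSubcategory ⥤ (kflat Y).FullSubcategory :=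
    (kflat Y).lift ((kflat Y).ι ⋙ (DCoh.tensorRightMod M).mapHomologicalComplex (ComplexShape.up ℤ))
      fun K => kflat_tensor hM K.property
  haveI := LeftDerTri.isLocalization (pullAdapted f)
  let e : ((kflat Y).ι ⋙ DerivedCategory.Q) ⋙ DCoh.LTensorMod M ⋙ DCoh.Lpull f ≅
      ((kflat Y).ι ⋙ DerivedCategory.Q) ⋙ DCoh.Lpull f ⋙
        DCoh.LTensorMod ((Scheme.Modules.pullback f).obj M) :=
    Functor.isoWhiskerLeft (kflat Y).ι (Functor.isoWhiskerRight (ltFlatIso hM) (DCoh.Lpull f)) ≪≫
    Functor.isoWhiskerLeft ρ (lpullIso f) ≪≫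
    Functor.isoWhiskerLeft (kflat Y).ι
      (Functor.isoWhiskerRight (pullTensorCxIso f M) DerivedCategory.Q) ≪≫
    Functor.isoWhiskerLeft ((kflat Y).ι ⋙
      (Scheme.Modules.pullback f).mapHomologicalComplex (ComplexShape.up ℤ)) (ltFlatIso hM').symm ≪≫
    Functor.isoWhiskerRight (lpullIso f).symm (DCoh.LTensorMod ((Scheme.Modules.pullback f).obj M))
  exact ⟨Localization.liftNatIso ((kflat Y).ι ⋙ DerivedCategory.Q) (LeftDerTri.qis _) _ _ _ _ e⟩

/-- Functors on `D(O_X)` are determined on complexes. -/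
theorem nonempty_of_Q {C : Type*} [Category C] (F G : DCoh.D X ⥤ C)
    (e : DerivedCategory.Q ⋙ F ≅ DerivedCategory.Q ⋙ G) : Nonempty (F ≅ G) :=
  ⟨Localization.liftNatIso DerivedCategory.Q
    (HomologicalComplex.quasiIso X.Modules (ComplexShape.up ℤ)) _ _ _ _ e⟩

/-- `- ⊗^L M` depends only on the isomorphism class of `M`. -/
theorem nonempty_ltensorMod_congr {M N : X.Modules} (e : M ≅ N) (hM : FlatMod.IsFlat M)
    [DCoh.HasLTensorMod M] [DCoh.HasLTensorMod N] :
    Nonempty (DCoh.LTensorMod M ≅ DCoh.LTensorMod N) :=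
  nonempty_of_Q _ _ (ltFlatIso hM ≪≫
    Functor.isoWhiskerRight (NatIso.mapHomologicalComplex
      (tensorRightModIso M ≪≫ (DCoh.tensorBi (X := X)).flip.mapIso e ≪≫ (tensorRightModIso N).symm)
      (ComplexShape.up ℤ)) DerivedCategory.Q ≪≫
    (ltFlatIso (isFlat_of_retract e.inv e.hom e.inv_hom_id hM)).symm)

end Groth.Agent.H25FM
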