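import Groth.Agent.H25FM.DivPow
import Groth.Agent.S8914
import Groth.Agent.H28Alg.RegularUFD
import Groth.Agent.H19Grp.RegularSmooth
import Groth.Agent.H11Sym.InvertibleInverse
import Groth.Agent.H25Dual.Biduality
import Groth.Agent.H25Dual.Points
import Groth.Agent.H25AbCube.TorsionStr

/-!
# Theta divisors of principal polarisations are reduced when irreducible
-/

set_option autoImplicit false
set_option linter.style.haveILetI false
set_option linter.unusedSectionVars false
set_option backward.isDefEq.respectTransparency false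
set_option synthInstance.maxHeartbeats 400000
set_option maxHeartbeats 1000000

universe u

open CategoryTheory CategoryTheory.Limits MonoidalCategory CartesianMonoidalCategory MonObj AlgebraicGeometry TopologicalSpace
open Groth.Agent Groth.Agent.H25AbCube Groth.Agent.H25Dual

noncomputable section

attribute [local instance] Functor.grpObjObj

namespace Groth.Agent.H25FM.ThetaRed

theorem exists_pc_idealMod_pow {X : Scheme.{u}} {D : X.IdealSheafData} (hD : BlowUp.IsEffCartierIdeal D) (m : ℕ) :
    ∃ (h : PicF.IsInvertible (ClSub.idealMod (D ^ (m + 1)))) (h1 : PicF.IsInvertible (ClSub.idealMod D)),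
      pc (ClSub.idealMod (D ^ (m + 1))) h = (m + 1) • pc (ClSub.idealMod D) h1 := by
  have h1 := (Groth.Agent.S8914.result D).2 hD
  induction m with
  | zero =>
    refine ⟨(Groth.Agent.S8914.result _).2 (by rwa [zero_add, pow_one]), h1, ?_⟩
    refine ((pc_eq_iff _ h1).2 ⟨eqToIso (by rw [zero_add, pow_one])⟩).trans ?_
    rw [zero_add, one_smul]
  | succ m ih =>
    obtain ⟨h, _, e⟩ := ih
    have hp := H11Strict.isEffCartierIdeal_pow hD (m + 1)
    obtain ⟨f⟩ := H28Vert.nonempty_idealMod_mul hp hD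
    refine ⟨(Groth.Agent.S8914.result _).2 (H11Strict.isEffCartierIdeal_pow hD _), h1, ?_⟩
    rw [succ_nsmul _ (m + 1), ← e, ← pc_tensor h h1 (H11Ample.isInvertible_tensor h h1)]
    exact (pc_eq_iff _ _).2 ⟨eqToIso (by rw [pow_succ _ (m + 1)]) ≪≫ f.symm⟩

/-- A module with a section with irreducible zeros is reduced or a proper power. -/
theorem isReduced_or_pow {X : Scheme.{u}} [IsLocallyNoetherian X] [IsIntegral X]
    (hufd : ∀ x : X, UniqueFactorizationMonoid (X.presheaf.stalk x)) {L : X.Modules} (hL : PicF.IsInvertible L)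
    (s : Coh.structureModule X ⟶ L) (hs : s ≠ 0) [IrreducibleSpace (PicF2.zeroScheme L s).subscheme] :
    IsReduced (PicF2.zeroScheme L s).subscheme ∨ ∃ (m : ℕ) (v : PC X), 2 ≤ m ∧ pc L hL = m • v := by
  obtain ⟨hI, hIz⟩ := DivPow.isEffCartierIdeal_zeroScheme hL s hs
  obtain ⟨D, m, hD, hDi, hm1, e⟩ := DivPow.exists_pow_eq hufd (PicF2.zeroScheme L s) hI
  rcases hm1.eq_or_lt with hm | hm
  · left
    rw [← hm, pow_one] at e
    rw [e]
    infer_instance
  · right
    obtain ⟨n, rfl⟩ : ∃ n, m = n + 1 := ⟨m - 1, by omega⟩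
    obtain ⟨hIm, hDm, he⟩ := exists_pc_idealMod_pow hD n
    obtain ⟨N, hN, ⟨a⟩⟩ := H11Sym.exists_inverse hIm
    have hT := H11Ample.isInvertible_tensor hIm hN
    have hneg : pc N hN = - ((n + 1) • pc (ClSub.idealMod D) hDm) := by
      have h2 := (pc_eq_iff (H11Ample.isInvertible_tensor hN hIm) H11Ample.isInvertible_structureModule).2 ⟨a⟩
      rw [pc_tensor hN hIm, pc_one, he] at h2
      exact eq_neg_of_add_eq_zero_left h2
    obtain ⟨b⟩ := (pc_eq_iff hT H11Ample.isInvertible_structureModule).1 (by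
      rw [pc_tensor hIm hN, pc_one, he, hneg, add_neg_cancel])
    obtain ⟨σ, hσ, hσr⟩ := H12Pic.PicCurve.exists_section_of_cartier (D ^ (n + 1))
      (H11Strict.isEffCartierIdeal_pow hD _) N hN b
    have hLr := H28Mero.isRegularSection_of_ne_zero L s hL hs
    obtain ⟨D₁, hD₁, -, e₁, -⟩ := H28Mero.exists_divisor_zeroScheme L s hL hLr
    obtain ⟨D₂, hD₂, -, e₂, -⟩ := H28Mero.exists_divisor_zeroScheme N σ hN hσr
    have hz : PicF2.zeroScheme N σ = PicF2.zeroScheme L s := by
      rw [e]
      refine Eq.trans ?_ hσ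
      exact Scheme.IdealSheafData.ext (funext fun V =>
        (H28Mero.zeroScheme_ideal N σ hN hσr V).trans (H28Mero.germIdealSheaf_ideal _ _ _).symm)
    have hLN : pc L hL = pc N hN := (pc_eq_iff hL hN).2
      ⟨e₁ ≪≫ eqToIso (congrArg Mero.divMod (H28Mero.isDivOfIdeal_unique hD₁ (hz ▸ hD₂))) ≪≫ e₂.symm⟩
    exact ⟨n + 1, - pc (ClSub.idealMod D) hDm, hm, by rw [hLN, hneg, smul_neg]⟩

variable {k : Type u} [Field k] [IsAlgClosed k] {A At : Over (Spec (CommRingCat.of k))} [GrpObj A] [IsProper A.hom]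
  [GeometricallyIntegral A.hom] [GrpObj At] [IsProper At.hom] [GeometricallyIntegral At.hom]

/-- A principal class on a positive dimensional abelian variety is not a proper multiple. -/
theorem not_exists_pow [CharZero k] {φ : ∀ T : Over (Spec (CommRingCat.of k)), PicF.Cl (PicF.XT A.hom T) → (T ⟶ At)}
    (hφ : AbDual.IsDualAV Scheme.fppfPrecoverage A At φ) (g : ℕ) (hg : topologicalKrullDim A.left = g) (hg0 : 0 < g)
    (ℓ : PC A.left) [IsIso (Φ φ A (theta ℓ))] (m : ℕ) (hm : 2 ≤ m) (v : PC A.left) : ℓ ≠ m • v := by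
  intro hℓ
  haveI : IsCommMonObj A := isCommMonObj_of_av
  haveI : IsCommMonObj At := isCommMonObj_of_av
  haveI := isMonHom_lam hφ v
  have hth : theta ℓ = m • theta v := by
    rw [hℓ]
    simp only [theta, ev, map_nsmul, smul_sub]
  have hpz : PZ A A (theta v) := pz_theta v
  have hF : Φ φ A (theta ℓ) = Φ φ A (theta v) ^ m := by rw [hth, (Φ_nsmul hφ hpz m).2]
  obtain ⟨e⟩ := nonempty_torsPts_equiv (A := A) (n := m) (by omega) (Nat.cast_ne_zero.2 (by omega)) g hg
  haveI : Fact (1 < m) := ⟨hm⟩
  haveI : NeZero (2 * g) := ⟨by omega⟩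
  let x := e.symm (Multiplicative.ofAdd (Pi.single (0 : Fin (2 * g)) (1 : ZMod m)))
  have hx1 : x ≠ 1 := fun h => by
    have h' := congrArg e h
    rw [MulEquiv.apply_symm_apply, map_one] at h'
    have h'' := congrFun (congrArg Multiplicative.toAdd h') 0
    rw [toAdd_ofAdd, Pi.single_eq_same] at h''
    exact one_ne_zero h''
  let y : 𝟙_ (Over (Spec (CommRingCat.of k))) ⟶ A := x.1
  have hy : y ^ m = 1 := x.2
  refine hx1 (Subtype.ext ?_)
  show y = 1
  rw [← cancel_mono (Φ φ A (theta ℓ)), hF, MonObj.comp_pow, ← MonObj.pow_comp, hy, MonObj.one_comp, MonObj.comp_pow,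
    MonObj.one_comp, one_pow]

/-- A nonzero section does not vanish at the generic point. -/
theorem genericPoint_notMem {X : Scheme.{u}} [IsLocallyNoetherian X] [IsIntegral X] {L : X.Modules}
    (hL : PicF.IsInvertible L) (s : Coh.structureModule X ⟶ L) (hs : s ≠ 0) :
    genericPoint X ∉ ((PicF2.zeroScheme L s).support : Set X) := fun h => by
  obtain ⟨U, hU, f, hf, hUf⟩ := (DivPow.isEffCartierIdeal_zeroScheme hL s hs).1 (genericPoint X)
  have h2 := (Scheme.IdealSheafData.mem_support_iff_of_mem hU).1 h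
  rw [hUf, Scheme.mem_zeroLocus_iff] at h2
  refine h2 f (Ideal.mem_span_singleton_self f) ((X.mem_basicOpen f _ hU).2 ?_)
  haveI : Nonempty U.1 := ⟨⟨_, hU⟩⟩
  letI : Field (X.presheaf.stalk (genericPoint X)) := inferInstanceAs (Field X.functionField)
  exact isUnit_iff_ne_zero.2 fun h0 => nonZeroDivisors.ne_zero hf
    (germ_injective_of_isIntegral X (genericPoint X) hU (h0.trans (map_zero _).symm))

/-- An irreducible scheme of dimension zero is a point. -/
theorem subsingleton_of_dim_zero {X : Scheme.{u}} [IsIntegral X] (h : topologicalKrullDim X = 0) :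
    Subsingleton X := by
  refine ⟨fun x y => ?_⟩
  have key : ∀ z : X, z = genericPoint X := fun z => by
    by_contra hne
    let T₁ : IrreducibleCloseds X := ⟨closure {z}, isIrreducible_singleton.closure, isClosed_closure⟩
    let T₂ : IrreducibleCloseds X := ⟨Set.univ, IrreducibleSpace.isIrreducible_univ X, isClosed_univ⟩
    have hlt : T₁ < T₂ := lt_of_le_of_ne (fun a _ => Set.mem_univ a) fun e => hne (by
      have h1 : closure ({z} : Set X) = Set.univ := congrArg SetLike.coe e
      exact ((specializes_iff_mem_closure.2 (h1 ▸ Set.mem_univ (genericPoint X))).antisymm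
        (genericPoint_specializes z)).eq)
    have h2 := Order.krullDim_pos_iff.2 ⟨T₁, T₂, hlt⟩
    rw [show Order.krullDim (IrreducibleCloseds X) = topologicalKrullDim X from rfl, h] at h2
    exact lt_irrefl _ h2
  rw [key x, key y]

end Groth.Agent.H25FM.ThetaRed
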